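import Cfsg.Agent.Schreier.PSU
import Cfsg.Agent.H751.Mono
import Cfsg.Agent.Cit.LongSp
import Cfsg.Agent.H116.CY.Wit
import Cfsg.Agent.H301.PQ.RankThree
import Cfsg.Agent.Blocks.Local
import Cfsg.Agent.H316.HT.Defs
import Cfsg.Agent.H693.K6.RankThree
import Mathlib
import Cfsg.Agent.H113.PSU.Rank3_m3
import Cfsg.Agent.H477.HC.Arith_m3
import Cfsg.Agent.ClassicalGeometry.PSUAutMain
import Cfsg.Agent.ClassicalGeometry.PSUAutTorus
import Cfsg.Agent.H726.HT.Ab_m3
import Cfsg.Agent.FastGrp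
import Cfsg.Agent.Prune
set_option linter.all false
prune_inst 0x7f9ffdfa7fe8efffdfff7e2ffed1dffc13824fffefdefd43ffe4e39f8fdf03020dc5ab851de090ff1ed660b430b87813fb7eeeffec6fdc7ffffd5ff41ffbee4fe5f7b508119884a40f342fff03f07f8a6f3ffffffffffffffffffffff7ffffbefffffbfeffff
open scoped Cfsg.Agent.FastGrp

-- part: H734/HT/UDefs
section
/-!
# S4933, box o.psu.e1: monomial elements of `GU n F q` and the frame stabiliser (helper734)

* `mm σ d` : the matrix `e_j ↦ d_j e_{σ j}`; `mgu`, `msu` the elements of `GU`, `SU`;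
* `Mon σ A` : `A ∈ GU` is monomial with permutation `σ`; `MonGU` the monomial subgroup;
* `Fr n F q` : the frame stabiliser in `MulAut (PSU n F q)`.
-/

set_option autoImplicit false

namespace Cfsg.Agent.H734.HT

open Cfsg Matrix Cfsg.Agent.LieClassical.HermSiegel Cfsg.Agent.ClassicalGeometry.PSUAutCount
  Cfsg.Agent.Schreier.PSU
open Cfsg.Agent.ClassicalGeometry.UnitAutBasic (pr pr_surjective)

variable {F : Type*} [Field F] {q n : ℕ}

/-- the matrix `e_j ↦ d_j e_{σ j}` -/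
def mm (σ : Equiv.Perm (Fin n)) (d : Fin n → F) : Matrix (Fin n) (Fin n) F :=
  fun i j => if i = σ j then d j else 0

theorem mm_apply (σ : Equiv.Perm (Fin n)) (d : Fin n → F) (i j : Fin n) :
    mm σ d i j = if i = σ j then d j else 0 := rfl

theorem mm_mulVec (σ : Equiv.Perm (Fin n)) (d : Fin n → F) (v : Fin n → F) (j : Fin n) :
    (mm σ d *ᵥ v) (σ j) = d j * v j := by
  rw [mulVec, dotProduct, Finset.sum_eq_single j]
  · rw [mm_apply, if_pos rfl]
  · intro k _ hk
    rw [mm_apply, if_neg (fun h => hk (σ.injective h).symm), zero_mul]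
  · intro h
    exact absurd (Finset.mem_univ j) h

theorem mm_mul (σ τ : Equiv.Perm (Fin n)) (d e : Fin n → F) :
    mm σ d * mm τ e = mm (σ * τ) (fun j => d (τ j) * e j) := by
  ext i j
  rw [mul_apply, Finset.sum_eq_single (τ j), mm_apply, mm_apply, mm_apply, if_pos rfl, Equiv.Perm.mul_apply]
  · split_ifs <;> simp
  · intro k _ hk
    rw [mm_apply τ, if_neg hk, mul_zero]
  · intro h
    exact absurd (Finset.mem_univ _) h

theorem mm_one : mm (1 : Equiv.Perm (Fin n)) (fun _ => (1 : F)) = 1 := by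
  ext i j
  rw [mm_apply, one_apply, Equiv.Perm.one_apply]

theorem mm_diag (d : Fin n → F) : mm 1 d = diagonal d := by
  ext i j
  rw [mm_apply, Equiv.Perm.one_apply, diagonal_apply]
  split_ifs with h
  · rw [h]
  · rfl

theorem det_mm (σ : Equiv.Perm (Fin n)) (d : Fin n → F) :
    (mm σ d).det = (Equiv.Perm.sign σ : ℤ) * ∏ j, d j := by
  have h1 : mm σ d = mm σ (fun _ => (1 : F)) * diagonal d := by
    rw [← mm_diag, mm_mul]
    congr 1
    funext j
    rw [one_mul]
  have h2 : mm σ (fun _ => (1 : F)) = (σ⁻¹).permMatrix F := by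
    ext i j
    rw [mm_apply, Equiv.Perm.permMatrix, PEquiv.toMatrix_apply, Equiv.toPEquiv_apply]
    congr 1
    rw [Option.mem_def, Option.some_inj]
    exact propext ⟨fun h => by rw [h]; exact σ.symm_apply_apply j, fun h => by rw [← h]; exact (σ.apply_symm_apply i).symm⟩
  rw [h1, det_mul, det_diagonal, h2, det_permutation, Equiv.Perm.sign_inv]

theorem herm_mm (σ : Equiv.Perm (Fin n)) (d : Fin n → F) (hd : ∀ i, d i * d i ^ q = 1) (u v : Fin n → F) :
    hermForm n F q (mm σ d *ᵥ u) (mm σ d *ᵥ v) = hermForm n F q u v := by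
  unfold hermForm
  rw [← Equiv.sum_comp σ]
  refine Finset.sum_congr rfl fun j _ => ?_
  rw [mm_mulVec, mm_mulVec, mul_pow]
  linear_combination (u j * v j ^ q) * hd j

theorem mm_inv (σ : Equiv.Perm (Fin n)) (d : Fin n → F) (hd : ∀ i, d i ≠ 0) :
    mm σ d * mm σ⁻¹ (fun j => (d (σ⁻¹ j))⁻¹) = 1 := by
  rw [mm_mul, mul_inv_cancel, ← mm_one]
  congr 1
  funext j
  exact mul_inv_cancel₀ (hd _)

theorem mm_inv' (σ : Equiv.Perm (Fin n)) (d : Fin n → F) (hd : ∀ i, d i ≠ 0) :
    mm σ⁻¹ (fun j => (d (σ⁻¹ j))⁻¹) * mm σ d = 1 := by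
  rw [mm_mul, inv_mul_cancel, ← mm_one]
  congr 1
  funext j
  have h1 : σ⁻¹ (σ j) = j := σ.symm_apply_apply j
  rw [h1]
  exact inv_mul_cancel₀ (hd _)

theorem ne_zero_of_norm {c : F} (h : c * c ^ q = 1) : c ≠ 0 := by
  rintro rfl
  rw [zero_mul] at h
  exact zero_ne_one h

/-- the monomial element of `GU` -/
def mgu (σ : Equiv.Perm (Fin n)) (d : Fin n → F) (hd : ∀ i, d i * d i ^ q = 1) : GU n F q :=
  ⟨⟨mm σ d, mm σ⁻¹ (fun j => (d (σ⁻¹ j))⁻¹), mm_inv σ d fun i => ne_zero_of_norm (hd i),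
    mm_inv' σ d fun i => ne_zero_of_norm (hd i)⟩, fun u v => herm_mm σ d hd u v⟩

theorem gm_mgu (σ : Equiv.Perm (Fin n)) (d : Fin n → F) (hd : ∀ i, d i * d i ^ q = 1) :
    gm (mgu σ d hd) = mm σ d := rfl

/-- the monomial element of `SU` -/
def msu (σ : Equiv.Perm (Fin n)) (d : Fin n → F) (hd : ∀ i, d i * d i ^ q = 1)
    (h1 : ((Equiv.Perm.sign σ : ℤ) : F) * ∏ j, d j = 1) : SU n F q :=
  mkSU (mm σ d) (by rw [det_mm, h1]) (fun u v => herm_mm σ d hd u v)

theorem mat_msu (σ : Equiv.Perm (Fin n)) (d : Fin n → F) (hd : ∀ i, d i * d i ^ q = 1)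
    (h1 : ((Equiv.Perm.sign σ : ℤ) : F) * ∏ j, d j = 1) : mat (msu σ d hd h1) = mm σ d := rfl

/-! ### Monomial elements -/

/-- `A` is monomial with permutation `σ` -/
def Mon (σ : Equiv.Perm (Fin n)) (A : GU n F q) : Prop := ∀ i j, gm A i j ≠ 0 → i = σ j

theorem Mon.mgu (σ : Equiv.Perm (Fin n)) (d : Fin n → F) (hd : ∀ i, d i * d i ^ q = 1) : Mon σ (mgu σ d hd) := by
  intro i j h
  by_contra hne
  apply h
  rw [gm_mgu, mm_apply, if_neg hne]

theorem Mon.eq_mm {σ : Equiv.Perm (Fin n)} {A : GU n F q} (h : Mon σ A) : gm A = mm σ (fun j => gm A (σ j) j) := by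
  ext i j
  rw [mm_apply]
  split_ifs with hi
  · rw [hi]
  · by_contra hne
    exact hi (h i j hne)

theorem gm_mulVec_single (A : GU n F q) (i j : Fin n) : (gm A *ᵥ Pi.single j 1) i = gm A i j := by
  simp

/-- the entries have norm one -/
theorem Mon.norm {σ : Equiv.Perm (Fin n)} {A : GU n F q} (h : Mon σ A) (j : Fin n) :
    gm A (σ j) j * gm A (σ j) j ^ q = 1 := by
  have h1 := herm_gm A (Pi.single j 1) (Pi.single j 1)
  unfold hermForm at h1
  rw [Finset.sum_eq_single (σ j), Finset.sum_eq_single j, gm_mulVec_single, Pi.single_eq_same, one_pow, mul_one] at h1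
  · exact h1
  · intro k _ hk
    rw [Pi.single_eq_of_ne hk, zero_mul]
  · intro h
    exact absurd (Finset.mem_univ _) h
  · intro k _ hk
    rw [gm_mulVec_single]
    by_contra hne
    apply hk
    apply h k j
    intro h0
    rw [h0, zero_mul] at hne
    exact hne rfl
  · intro h
    exact absurd (Finset.mem_univ _) h

theorem Mon.eq_mgu {σ : Equiv.Perm (Fin n)} {A : GU n F q} (h : Mon σ A)  :
    A = H734.HT.mgu σ (fun j => gm A (σ j) j) (h.norm) := gm_inj h.eq_mm

theorem Mon.one : Mon 1 (1 : GU n F q) := by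
  intro i j h
  by_contra hne
  apply h
  rw [gm_one, one_apply, if_neg (show ¬ i = j from hne)]

theorem Mon.mul {σ τ : Equiv.Perm (Fin n)} {A B : GU n F q} (hA : Mon σ A) (hB : Mon τ B) : Mon (σ * τ) (A * B) := by
  intro i j h
  rw [gm_mul, hA.eq_mm, hB.eq_mm, mm_mul, mm_apply] at h
  by_contra hne
  rw [if_neg hne] at h
  exact h rfl

theorem Mon.entry_mul {σ τ : Equiv.Perm (Fin n)} {A B : GU n F q} (hA : Mon σ A) (hB : Mon τ B) (j : Fin n) :
    gm (A * B) ((σ * τ) j) j = gm A (σ (τ j)) (τ j) * gm B (τ j) j := by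
  rw [gm_mul]
  conv_lhs => rw [hA.eq_mm, hB.eq_mm, mm_mul, mm_apply, if_pos rfl]

/-- the permutation is unique -/
theorem Mon.uniq {σ τ : Equiv.Perm (Fin n)} {A : GU n F q} (h : Mon σ A) (h' : Mon τ A) : σ = τ := by
  ext j
  have h1 : ∃ i, gm A i j ≠ 0 := by
    by_contra hno
    push Not at hno
    have h2 := congrFun (congrFun (gm_inv_mul A) j) j
    rw [mul_apply, one_apply_eq, Finset.sum_eq_zero (fun k _ => by rw [hno k, mul_zero])] at h2
    exact zero_ne_one h2
  obtain ⟨i, hi⟩ := h1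
  rw [← h i j hi, ← h' i j hi]

theorem Mon.inv {σ : Equiv.Perm (Fin n)} {A : GU n F q} (h : Mon σ A)  : Mon σ⁻¹ A⁻¹ := by
  have h0 : ∀ j, gm A (σ j) j ≠ 0 := fun j => ne_zero_of_norm (h.norm j)
  have h1 : gm A⁻¹ = mm σ⁻¹ (fun j => (gm A (σ (σ⁻¹ j)) (σ⁻¹ j))⁻¹) := by
    have h2 := mm_inv σ (fun j => gm A (σ j) j) h0
    rw [← h.eq_mm] at h2
    calc gm A⁻¹ = gm A⁻¹ * (gm A * mm σ⁻¹ (fun j => (gm A (σ (σ⁻¹ j)) (σ⁻¹ j))⁻¹)) := by rw [h2, Matrix.mul_one]
      _ = _ := by rw [← Matrix.mul_assoc, gm_inv_mul, Matrix.one_mul]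
  intro i j hij
  by_contra hne
  apply hij
  rw [h1, mm_apply, if_neg hne]

theorem gm_map (ρ : F ≃+* F) (A : GU n F q) (i j : Fin n) : gm (mapGU ρ A) i j = ρ (gm A i j) := rfl

theorem Mon.map {σ : Equiv.Perm (Fin n)} {A : GU n F q} (h : Mon σ A) (ρ : F ≃+* F) : Mon σ (mapGU ρ A) := by
  intro i j hij
  apply h i j
  intro h0
  apply hij
  rw [gm_map, h0, map_zero]

theorem Mon.smul {σ : Equiv.Perm (Fin n)} {A B : GU n F q} (h : Mon σ A) {c : F} (hc : gm B = c • gm A) : Mon σ B := by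
  intro i j hij
  apply h i j
  intro h0
  apply hij
  rw [hc, Matrix.smul_apply, h0, smul_zero]

/-- the monomial subgroup of `GU` -/
def MonGU (n : ℕ) (F : Type*) [Field F] (q : ℕ)  : Subgroup (GU n F q) where
  carrier := {A | ∃ σ, Mon σ A}
  one_mem' := ⟨1, Mon.one⟩
  mul_mem' := by
    rintro A B ⟨σ, hA⟩ ⟨τ, hB⟩
    exact ⟨σ * τ, hA.mul hB⟩
  inv_mem' := by
    rintro A ⟨σ, hA⟩
    exact ⟨σ⁻¹, hA.inv⟩

/-! ### The frame stabiliser -/

theorem toAut_mul (A B : GU n F q) (ρ τ : F ≃+* F) : toAut A ρ * toAut B τ = toAut (A * mapGU ρ B) (ρ * τ) := by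
  rw [toAut_eq, toAut_eq, toAut_eq, map_mul, map_mul, ← conj_field]
  group

theorem toAut_one : toAut (1 : GU n F q) 1 = 1 := by
  rw [toAut_eq, map_one, map_one, one_mul]

theorem mapGU_one (A : GU n F q) : mapGU 1 A = A := gm_inj (by ext i j; rw [gm_map]; rfl)

theorem mapGU_map (ρ τ : F ≃+* F) (A : GU n F q) : mapGU ρ (mapGU τ A) = mapGU (ρ * τ) A := rfl

theorem toAut_inv (A : GU n F q) (ρ : F ≃+* F) : (toAut A ρ)⁻¹ = toAut (mapGU ρ⁻¹ A⁻¹) ρ⁻¹ := by
  rw [inv_eq_iff_mul_eq_one, toAut_mul, mapGU_map, mul_inv_cancel, mapGU_one, mul_inv_cancel, toAut_one]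

/-- the stabiliser of the standard orthogonal frame -/
def Fr (n : ℕ) (F : Type*) [Field F] (q : ℕ)  : Subgroup (MulAut (PSU n F q)) where
  carrier := {x | ∃ σ A ρ, Mon σ A ∧ x = toAut A ρ}
  one_mem' := ⟨1, 1, 1, Mon.one, toAut_one.symm⟩
  mul_mem' := by
    rintro _ _ ⟨σ, A, ρ, hA, rfl⟩ ⟨τ, B, ρ', hB, rfl⟩
    exact ⟨σ * τ, _, _, hA.mul (hB.map ρ), toAut_mul A B ρ ρ'⟩
  inv_mem' := by
    rintro _ ⟨σ, A, ρ, hA, rfl⟩
    exact ⟨σ⁻¹, _, _, (hA.inv).map _, toAut_inv A ρ⟩

theorem mem_Fr  {x : MulAut (PSU n F q)} :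
    x ∈ Fr n F q ↔ ∃ σ A ρ, Mon σ A ∧ x = toAut A ρ := Iff.rfl

end Cfsg.Agent.H734.HT
end

-- part: H892/HT/MonU
section
/-!
# Monomial `p`-subgroups of `SU_n(q)`, `p ∣ q + 1` (helper892)
-/

set_option autoImplicit false
set_option linter.unusedSectionVars false

open Matrix Equiv Equiv.Perm Subgroup

namespace Cfsg.Agent.H892.HT

open Cfsg Cfsg.Agent.H751 Cfsg.Agent.Cit.LongInst Cfsg.Agent.Cit.LongModel

section Gen

variable {F : Type} [Field F] {ι : Type} [Fintype ι] [DecidableEq ι] {C : Type} [CommGroup C] (χ : C →* Fˣ)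

theorem monMat_inl (u : ι → C) :
    monMat χ (SemidirectProduct.inl u : MonGp ι C) = diagonal fun i => ((χ (u i) : Fˣ) : F) := by
  ext i j
  rw [monMat_apply, diagonal_apply]
  by_cases h : i = j
  · subst h
    rw [if_pos (show (SemidirectProduct.inl u : MonGp ι C).right i = i from rfl), if_pos rfl]
    rfl
  · rw [if_neg (show ¬ (SemidirectProduct.inl u : MonGp ι C).right j = i from fun h' => h h'.symm), if_neg h]

theorem det_inl (u : ι → C) :
    (monMat χ (SemidirectProduct.inl u : MonGp ι C)).det = ((χ (∏ i, u i) : Fˣ) : F) := by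
  rw [monMat_inl, det_diagonal, map_prod]
  push_cast
  rfl

theorem det_inr (σ : Perm ι) :
    (monMat χ (SemidirectProduct.inr σ : MonGp ι C)).det = ((sign σ : ℤ) : F) := by
  have h : monMat χ (SemidirectProduct.inr σ : MonGp ι C) = ((σ⁻¹).toPEquiv.toMatrix : Matrix ι ι F) := by
    ext i j
    rw [monMat_apply, PEquiv.toMatrix_apply]
    have e1 : ((SemidirectProduct.inr σ : MonGp ι C).right j = i) ↔ j ∈ (σ⁻¹).toPEquiv i := by
      rw [Equiv.toPEquiv_apply, Option.mem_some_iff]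
      show σ j = i ↔ σ⁻¹ i = j
      rw [Perm.inv_eq_iff_eq]
      exact eq_comm
    have e2 : ((χ ((SemidirectProduct.inr σ : MonGp ι C).left i) : Fˣ) : F) = 1 := by
      show ((χ 1 : Fˣ) : F) = 1
      rw [map_one, Units.val_one]
    rw [e2]
    simp only [e1]
  rw [h, det_permutation, sign_inv]

/-- the monomial matrices of determinant one, permutations in `P` -/
def XX (P : Subgroup (Perm ι)) : Subgroup (MonGp ι C) :=
  (P.comap SemidirectProduct.rightHom) ⊓ ((GeneralLinearGroup.det).comp (mono χ)).ker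

variable {χ}

theorem mem_XX {P : Subgroup (Perm ι)} {x : MonGp ι C} : x ∈ XX χ P ↔ x.right ∈ P ∧ (monMat χ x).det = 1 := by
  unfold XX
  rw [mem_inf, mem_comap, MonoidHom.mem_ker, Units.ext_iff]
  rfl

theorem inl_mem {P : Subgroup (Perm ι)} {u : ι → C} (h : ∏ i, u i = 1) : SemidirectProduct.inl u ∈ XX χ P := by
  refine mem_XX.2 ⟨P.one_mem, ?_⟩
  rw [det_inl, h, map_one, Units.val_one]

theorem sign_of_odd {p : ℕ} (hp : Odd p) {σ : Perm ι} {k : ℕ} (h : σ ^ p ^ k = 1) : sign σ = 1 := by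
  have h1 : sign σ ^ p ^ k = 1 := by rw [← map_pow, h, map_one]
  rcases Int.units_eq_one_or (sign σ) with h2 | h2
  · exact h2
  · rw [h2, (hp.pow).neg_one_pow] at h1
    exact absurd h1 (by decide)

theorem inr_mem {p : ℕ} (hp : Odd p) {P : Subgroup (Perm ι)} (hP : IsPGroup p P) {σ : Perm ι} (h : σ ∈ P) :
    (SemidirectProduct.inr σ : MonGp ι C) ∈ XX χ P := by
  refine mem_XX.2 ⟨h, ?_⟩
  obtain ⟨k, hk⟩ := hP ⟨σ, h⟩
  rw [det_inr, sign_of_odd hp (congrArg Subtype.val hk)]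
  simp

theorem isPGroup_XX {p : ℕ} (hC : ∀ c : C, c ^ p = 1) {P : Subgroup (Perm ι)} (hP : IsPGroup p P) :
    IsPGroup p (XX χ P) := by
  have h1 : IsPGroup p (P.comap (SemidirectProduct.rightHom : MonGp ι C →* Perm ι)) := by
    refine hP.comap_of_ker_isPGroup _ ?_
    rintro ⟨x, hx⟩
    refine ⟨1, ?_⟩
    rw [pow_one]
    apply Subtype.ext
    show x ^ p = 1
    have hx' : x.right = 1 := hx
    have h2 : x = SemidirectProduct.inl x.left := SemidirectProduct.ext rfl hx'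
    rw [h2, ← map_pow]
    have h3 : x.left ^ p = 1 := by
      funext i
      exact hC _
    rw [h3, map_one]
  exact h1.to_le inf_le_left

theorem cond_monMat [Fintype F] {q : ℕ} (hF : Fintype.card F = q ^ 2) (hχ : ∀ c, χ c ^ (q + 1) = 1)
    {P : Subgroup (Perm ι)} {x : MonGp ι C} (hx : x ∈ XX χ P) : Cond {cj hF} (monMat χ x) := by
  refine ⟨(mem_XX.1 hx).2, fun t ht => ?_⟩
  rw [Set.mem_singleton_iff.1 ht]
  ext i j
  rw [Matrix.mul_apply, Finset.sum_eq_single (x.right i)]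
  · rw [transpose_apply, Matrix.map_apply, monMat_apply, monMat_apply, if_pos rfl, Matrix.one_apply]
    by_cases h : i = j
    · subst h
      rw [if_pos rfl, if_pos rfl, cj_apply]
      have h1 := congrArg Units.val (hχ (x.left (x.right i)))
      rw [Units.val_pow_eq_pow_val, Units.val_one, pow_succ'] at h1
      exact h1
    · rw [if_neg h, if_neg (fun h' => h (x.right.injective h').symm), map_zero, mul_zero]
  · intro k _ hk
    rw [transpose_apply, monMat_apply, if_neg (fun h => hk h.symm), zero_mul]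
  · intro h
    exact absurd (Finset.mem_univ _) h

/-- the monomial group in `SL_n(F)` -/
noncomputable def toSLn {n : ℕ} (P : Subgroup (Perm ι)) (e : Fin n ≃ ι) : XX χ P →* SpecialLinearGroup (Fin n) F where
  toFun x := ⟨(monMat χ x.1).submatrix e e, by rw [det_submatrix_equiv_self]; exact (mem_XX.1 x.2).2⟩
  map_one' := by
    apply Subtype.ext
    change (monMat χ (1 : MonGp ι C)).submatrix e e = 1
    rw [monMat_one, submatrix_one_equiv]
  map_mul' x y := by
    apply Subtype.ext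
    change (monMat χ (x.1 * y.1)).submatrix e e = (monMat χ x.1).submatrix e e * (monMat χ y.1).submatrix e e
    rw [submatrix_mul_equiv, monMat_mul]

/-- the monomial group in `SU_n(q)` -/
noncomputable def toSU [Fintype F] {q n : ℕ} (hF : Fintype.card F = q ^ 2) (hχ : ∀ c, χ c ^ (q + 1) = 1)
    (P : Subgroup (Perm ι)) (e : Fin n ≃ ι) : XX χ P →* SU n F q :=
  (toSLn P e).codRestrict _ fun x => by
    rw [su_cond hF]
    exact (cond_reindex e.symm).2 (cond_monMat hF hχ x.2)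

theorem toSU_val [Fintype F] {q n : ℕ} (hF : Fintype.card F = q ^ 2) (hχ : ∀ c, χ c ^ (q + 1) = 1)
    (P : Subgroup (Perm ι)) (e : Fin n ≃ ι) (x : XX χ P) :
    (toSU hF hχ P e x).1.1 = (monMat χ x.1).submatrix e e := rfl

/-- the monomial group in `PSU_n(q)` -/
noncomputable def toPSU [Fintype F] {q n : ℕ} (hF : Fintype.card F = q ^ 2) (hχ : ∀ c, χ c ^ (q + 1) = 1)
    (P : Subgroup (Perm ι)) (e : Fin n ≃ ι) : XX χ P →* PSU n F q :=
  (QuotientGroup.mk' (center (SU n F q))).comp (toSU hF hχ P e)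

theorem of_toPSU_eq_one [Fintype F] {q n : ℕ} (hF : Fintype.card F = q ^ 2) (hχ : ∀ c, χ c ^ (q + 1) = 1)
    {P : Subgroup (Perm ι)} {e : Fin n ≃ ι} (hn : 3 ≤ n) {x : XX χ P} (h : toPSU hF hχ P e x = 1) :
    ∃ c : F, ∀ i, monMat χ x.1 i i = c := by
  obtain ⟨c, hc⟩ := su_cen hF hn _ ((QuotientGroup.eq_one_iff _).1 h)
  refine ⟨c, fun i => ?_⟩
  have h1 : (monMat χ x.1).submatrix e e = c • 1 := by rw [← hc, toSU_val]
  have h2 := congrFun (congrFun h1 (e.symm i)) (e.symm i)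
  simpa using h2

end Gen

end Cfsg.Agent.H892.HT
end

-- part: H892/HT/Grid
section
/-!
# The permutation `p`-groups on the grid `p × p` and on the grid `3 × 2` (helper892)
-/

set_option autoImplicit false
set_option linter.unusedSectionVars false

open Matrix Equiv Equiv.Perm Subgroup
open scoped commutatorElement

namespace Cfsg.Agent.H892.HT

open Cfsg Cfsg.Agent.H751

section Comm

variable {ι : Type} {C : Type} [CommGroup C]

theorem comm_inr_inl (s : Perm ι) (u : ι → C) :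
    ⁅(SemidirectProduct.inr s : MonGp ι C), (SemidirectProduct.inl u : MonGp ι C)⁆ =
      (SemidirectProduct.inl (fun i => u (s⁻¹ i) * (u i)⁻¹) : MonGp ι C) := by
  rw [commutatorElement_def, ← map_inv, ← SemidirectProduct.inl_aut, ← map_inv, ← map_mul]
  rfl

end Comm

section Grid

variable (p : ℕ) [hp : Fact p.Prime]

/-- the affine group of order `p ^ 3` on the grid -/
def P0 : Subgroup (Perm (ZMod p × ZMod p)) where
  carrier := {σ | ∃ r s t : ZMod p, ∀ a b, σ (a, b) = (a + t, b + (r * a + s))}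
  mul_mem' := by
    rintro σ τ ⟨r, s, t, h⟩ ⟨r', s', t', h'⟩
    refine ⟨r + r', s' + r * t' + s, t' + t, fun a b => ?_⟩
    rw [Perm.mul_apply, h', h]
    ext
    · simp only; ring
    · simp only; ring
  one_mem' := ⟨0, 0, 0, fun a b => by simp⟩
  inv_mem' := by
    rintro σ ⟨r, s, t, h⟩
    refine ⟨-r, r * t - s, -t, fun a b => ?_⟩
    rw [Perm.inv_eq_iff_eq, h]
    ext
    · simp only; ring
    · simp only; ring

theorem isPGroup_P0 : IsPGroup p (P0 p) := by
  rintro ⟨σ, hσ⟩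
  refine ⟨2, Subtype.ext ?_⟩
  show σ ^ p ^ 2 = 1
  obtain ⟨r, s, t, h⟩ := hσ
  have h1 : ∀ (k : ℕ) (a b : ZMod p), ((σ ^ k) (a, b)).1 = a + k * t := by
    intro k
    induction k with
    | zero => intro a b; simp
    | succ k ih =>
      intro a b
      rw [pow_succ, Perm.mul_apply, h, ih]
      push_cast
      ring
  obtain ⟨r', s', t', h'⟩ := (P0 p).pow_mem (show σ ∈ P0 p from ⟨r, s, t, h⟩) p
  have ht' : t' = 0 := by
    have h2 := h1 p 0 0
    rw [h' 0 0] at h2
    simpa using h2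
  subst ht'
  have h3 : ∀ (k : ℕ) (a b : ZMod p), ((σ ^ p) ^ k) (a, b) = (a, b + k * (r' * a + s')) := by
    intro k
    induction k with
    | zero => intro a b; simp
    | succ k ih =>
      intro a b
      rw [pow_succ, Perm.mul_apply, h', ih]
      ext
      · simp
      · push_cast
        simp only [add_zero]
        ring
  rw [pow_two, pow_mul]
  ext ⟨a, b⟩ : 1
  rw [h3]
  simp

/-- the permutations of the first summand -/
def ext1 (α β : Type) : Perm α →* Perm (α ⊕ β) := (Perm.sumCongrHom α β).comp (MonoidHom.inl (Perm α) (Perm β))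

theorem ext1_inl {α β : Type} (σ : Perm α) (a : α) : ext1 α β σ (Sum.inl a) = Sum.inl (σ a) := rfl

/-- `(a, b) ↦ (a, b + a)` -/
def sx : Perm (ZMod p × ZMod p) where
  toFun x := (x.1, x.2 + x.1)
  invFun x := (x.1, x.2 - x.1)
  left_inv x := by ext <;> simp
  right_inv x := by ext <;> simp

/-- `(a, b) ↦ (a + 1, b)` -/
def sy : Perm (ZMod p × ZMod p) where
  toFun x := (x.1 + 1, x.2)
  invFun x := (x.1 - 1, x.2)
  left_inv x := by ext <;> simp
  right_inv x := by ext <;> simp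

/-- `(a, b) ↦ (a, b + 1)` -/
def sz : Perm (ZMod p × ZMod p) where
  toFun x := (x.1, x.2 + 1)
  invFun x := (x.1, x.2 - 1)
  left_inv x := by ext <;> simp
  right_inv x := by ext <;> simp

theorem sx_mem : sx p ∈ P0 p := ⟨1, 0, 0, fun a b => by simp [sx]⟩

theorem sy_mem : sy p ∈ P0 p := ⟨0, 0, 1, fun a b => by simp [sy]⟩

theorem sz_mem : sz p ∈ P0 p := ⟨0, 1, 0, fun a b => by simp [sz]⟩

theorem comm_sx_sy : ⁅sx p, sy p⁆ = sz p := by
  rw [commutatorElement_def, mul_inv_eq_iff_eq_mul, mul_inv_eq_iff_eq_mul]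
  ext ⟨a, b⟩
  · simp [sx, sy, sz]
  · simp [sx, sy, sz, add_assoc]

end Grid

end Cfsg.Agent.H892.HT
end

-- part: H769/CY/RThree
section
/-!
# S4829: the witness of a rank 3 action (helper769)

`rowA_of_r3` : `S` of rank 3 on `X`, the automorphisms permute the point stabilizers, eigenvalues `r`, `s` with `p ∣ s`,
`¬ p ∣ r`, `¬ p ∣ k`, local condition `LocQ` at a `p`-subgroup : `RowA p S`, the witness is the constituent of the
eigenvalue `r`.
-/

set_option autoImplicit false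
set_option linter.unusedSectionVars false

namespace Cfsg.Agent.H769.CY

open Cfsg Subgroup MulAction
open Cfsg.Agent.H690.Spor.RankThree Cfsg.Agent.H690.Spor.RankThree.R3 Cfsg.Agent.H968.Imc Cfsg.Agent.H770.CY
open Cfsg.Agent.Characters.Core

universe u v

variable {S : Type u} [Group S] {X : Type v} [MulAction S X] {R : X → X → Prop} {k l : ℕ}

/-! ### The action of the automorphisms -/

section act

variable (A : Subgroup (MulAut S))

/-- the action on the point stabilizers -/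
noncomputable def actFun (hst : ∀ α ∈ A, ∀ x : X, ∃ y : X, (stabilizer S x).map (MulEquiv.toMonoidHom α) = stabilizer S y)
    (α : A) (x : X) : X := Classical.choose (hst α.1 α.2 x)

theorem actFun_spec (hst : ∀ α ∈ A, ∀ x : X, ∃ y : X, (stabilizer S x).map (MulEquiv.toMonoidHom α) = stabilizer S y)
    (α : A) (x : X) : (stabilizer S x).map (MulEquiv.toMonoidHom α.1) = stabilizer S (actFun A hst α x) :=
  Classical.choose_spec (hst α.1 α.2 x)

variable (hinj : ∀ x y : X, stabilizer S x = stabilizer S y → x = y)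
  (hst : ∀ α ∈ A, ∀ x : X, ∃ y : X, (stabilizer S x).map (MulEquiv.toMonoidHom α) = stabilizer S y)

/-- the action of the automorphisms on the points -/
@[reducible] noncomputable def act : MulAction A X where
  smul := actFun A hst
  one_smul x := by
    apply hinj
    show stabilizer S (actFun A hst 1 x) = _
    rw [← actFun_spec]
    exact Subgroup.map_id _
  mul_smul α β x := by
    apply hinj
    show stabilizer S (actFun A hst (α * β) x) = stabilizer S (actFun A hst α (actFun A hst β x))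
    rw [← actFun_spec, ← actFun_spec, ← actFun_spec, Subgroup.map_map]
    rfl

theorem act_smul (α : A) (g : S) (x : X) :
    (letI := act A hinj hst; α • (g • x)) = (α : MulAut S) g • (letI := act A hinj hst; α • x) := by
  apply hinj
  show stabilizer S (actFun A hst α (g • x)) = stabilizer S ((α : MulAut S) g • actFun A hst α x)
  rw [← actFun_spec, stabilizer_smul_eq_stabilizer_map_conj, stabilizer_smul_eq_stabilizer_map_conj, ← actFun_spec,
    Subgroup.map_map, Subgroup.map_map]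
  congr 1
  ext y
  show (α : MulAut S) (g * y * g⁻¹) = (α : MulAut S) g * (α : MulAut S) y * ((α : MulAut S) g)⁻¹
  rw [map_mul, map_mul, map_inv]

theorem act_conj (hA : ∀ s : S, MulAut.conj s ∈ A) (s : S) (x : X) :
    (letI := act A hinj hst; (⟨MulAut.conj s, hA s⟩ : A) • x) = s • x := by
  apply hinj
  show stabilizer S (actFun A hst ⟨MulAut.conj s, hA s⟩ x) = stabilizer S (s • x)
  rw [← actFun_spec, stabilizer_smul_eq_stabilizer_map_conj]

end act

/-! ### A larger group acting -/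

theorem card_two [Finite X] (h : R3 S X R k l) (x : X) : Nat.card {z : X // z ≠ x ∧ ¬ R x z} = l := by
  classical
  have := Fintype.ofFinite X
  have h1 := h.cardn
  have h2 := h.cardk x
  rw [Nat.card_eq_fintype_card, Fintype.card_subtype] at h2 ⊢
  rw [Nat.card_eq_fintype_card, ← Finset.card_univ] at h1
  have h3 : (Finset.univ : Finset X) = insert x (Finset.univ.filter (fun z => R x z) ∪
      Finset.univ.filter (fun z => z ≠ x ∧ ¬ R x z)) := by
    ext z
    simp only [Finset.mem_univ, Finset.mem_insert, Finset.mem_union, Finset.mem_filter, true_and, true_iff]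
    tauto
  rw [h3, Finset.card_insert_of_notMem, Finset.card_union_of_disjoint, h2] at h1
  · omega
  · rw [Finset.disjoint_left]
    intro z hz hz'
    rw [Finset.mem_filter] at hz hz'
    exact hz'.2.2 hz.2
  · rw [Finset.mem_union, Finset.mem_filter, Finset.mem_filter]
    rintro (h4 | h4)
    · exact h.irr x h4.2
    · exact h4.2.1 rfl

section big

variable {A : Subgroup (MulAut S)} [MulAction A X]

theorem smul_symm (hc : ∀ (α : A) (g : S) (x : X), α • (g • x) = (α : MulAut S) g • (α • x)) (α : A) (g : S) (x : X) :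
    α • ((α : MulAut S).symm g • x) = g • (α • x) := by
  rw [hc]
  congr 1
  exact (α : MulAut S).apply_symm_apply g

/-- the relation is preserved -/
theorem R_smul [Finite X] (hc : ∀ (α : A) (g : S) (x : X), α • (g • x) = (α : MulAut S) g • (α • x))
    (h : R3 S X R k l) (hkl : k ≠ l) (α : A) {x y : X} (hxy : R x y) : R (α • x) (α • y) := by
  by_contra hn
  apply hkl
  rw [← h.cardk x, ← card_two h (α • x)]
  refine Nat.card_congr (Equiv.ofBijective (fun z : {z // R x z} => ⟨α • z.1, ?_, ?_⟩) ⟨?_, ?_⟩)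
  · intro h1
    have h2 := MulAction.injective α h1
    have h3 := z.2
    rw [h2] at h3
    exact h.irr x h3
  · obtain ⟨g, hg1, hg2⟩ := h.one x y x z hxy z.2
    have e1 : α • x = (α : MulAut S) g • (α • x) := by rw [← hc, hg1]
    have e2 : α • z.1 = (α : MulAut S) g • (α • y) := by rw [← hc, hg2]
    rw [e2]
    rw [e1, h.inv_iff]
    exact hn
  · intro z z' hz
    exact Subtype.ext (MulAction.injective α (congrArg Subtype.val hz))
  · rintro ⟨z, hz1, hz2⟩
    have hne : α • x ≠ α • y := fun h1 => by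
      have h2 := MulAction.injective α h1
      rw [← h2] at hxy
      exact h.irr x hxy
    obtain ⟨g, hg1, hg2⟩ := h.two (α • x) (α • y) (α • x) z hne hn (Ne.symm hz1) hz2
    refine ⟨⟨(α : MulAut S).symm g • y, ?_⟩, Subtype.ext ?_⟩
    · have h1 : (α : MulAut S).symm g • x = x := by
        apply MulAction.injective α
        show α • ((α : MulAut S).symm g • x) = α • x
        rw [smul_symm hc, hg1]
      have h2 := (h.inv_iff ((α : MulAut S).symm g) x y).2 hxy
      rwa [h1] at h2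
    · show α • ((α : MulAut S).symm g • y) = z
      rw [smul_symm hc, hg2]

/-- the rank 3 action of the larger group -/
theorem r3_big [Finite X] (hA : ∀ s : S, MulAut.conj s ∈ A)
    (hc : ∀ (α : A) (g : S) (x : X), α • (g • x) = (α : MulAut S) g • (α • x))
    (hs : ∀ (s : S) (x : X), (⟨MulAut.conj s, hA s⟩ : A) • x = s • x)
    (h : R3 S X R k l) (hkl : k ≠ l) : R3 A X R k l where
  trans := by
    have := h.trans
    refine ⟨fun x y => ?_⟩
    obtain ⟨g, hg⟩ := MulAction.exists_smul_eq S x y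
    exact ⟨_, (hs g x).trans hg⟩
  symm := h.symm
  irr := h.irr
  inv α x y hxy := R_smul hc h hkl α hxy
  one x y x' y' h1 h2 := by
    obtain ⟨g, hg1, hg2⟩ := h.one x y x' y' h1 h2
    exact ⟨_, (hs g x).trans hg1, (hs g y).trans hg2⟩
  two x y x' y' h1 h2 h3 h4 := by
    obtain ⟨g, hg1, hg2⟩ := h.two x y x' y' h1 h2 h3 h4
    exact ⟨_, (hs g x).trans hg1, (hs g y).trans hg2⟩
  cardk := h.cardk
  k0 := h.k0
  l0 := h.l0
  cardn := h.cardn

end big

/-! ### The witness -/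

theorem hab_of [Fintype X] [DecidableEq X] [DecidableRel R] (h : R3 S X R k l) {a b : ℕ}
    (ha : ∀ x y, R x y → com R x y = a) (hb : ∀ x y, x ≠ y → ¬ R x y → com R x y = b) (x y : X) :
    ∑ z, adj R x z * adj R z y = (k - b : ℂ) * dia x y + (a - b : ℂ) * adj R x y + b := by
  rw [sum_mul]
  unfold dia adj
  by_cases hxy : x = y
  · subst hxy
    rw [if_pos rfl, if_neg (h.irr x), h.com_self]
    ring
  · rw [if_neg hxy]
    by_cases hR : R x y
    · rw [if_pos hR, ha x y hR]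
      ring
    · rw [if_neg hR, hb x y hxy hR]
      ring

theorem finite_X (h : R3 S X R k l) : Finite X := by
  have hn := h.cardn
  by_contra hcon
  rw [not_finite_iff_infinite] at hcon
  rw [Nat.card_eq_zero_of_infinite] at hn
  omega

end Cfsg.Agent.H769.CY
end

-- part: H892/HT/Rk
section
/-!
# S4933: rows by a rank 3 action (helper892)

`exists_mem_r3_val` : `H693.K6.exists_mem_r3` (helper693) with the values of the character.
`exists_aut` : `S` of rank 3 on `X`, the automorphisms permute the point stabilizers, eigenvalue `r ≡ k` modulo `p` of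
multiplicity `f`.  For every group `A` of automorphisms of `S` (containing the inner ones) the principal block contains a
character of degree `f` not trivial on `S`.
-/

set_option autoImplicit false
set_option linter.unusedSectionVars false

namespace Cfsg.Agent.H892.HT

open Cfsg Subgroup MulAction
open Cfsg.Agent.H816.IMEig Cfsg.Agent.H816.IMEig.Col Cfsg.Agent.Blocks.Fong
open Cfsg.Agent.H690.Spor.RankThree Cfsg.Agent.H690.Spor.RankThree.R3 Cfsg.Agent.H968.Imc
open Cfsg.Agent.Characters.Core Cfsg.Agent.H769.CY Cfsg.Agent.H316.HT Cfsg.Agent.H693.K6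
open scoped BigOperators

universe u v w

section val

variable {G : Type v} [Group G] {X : Type w} [MulAction G X] {R : X → X → Prop} {k l : ℕ}

/-- **A constituent of a rank three permutation character in the principal block.** -/
theorem exists_mem_r3_val [Finite G] (h : R3 G X R k l) [Fintype X] [DecidableEq X] [DecidableRel R] {a b : ℕ}
    (hab : ∀ x y, ∑ z, adj R x z * adj R z y =
      (k - b : ℂ) * dia x y + (a - b : ℂ) * adj R x y + b) {r s : ℤ} (hrs : r ≠ s) (h1 : r + s = a - b)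
    (h2 : r * s = b - k) {f : ℕ} (hf : (f : ℤ) * (r - s) = -(s * (k + l) + k)) {p : ℕ}
    (hp1 : (p : ℤ) ∣ r - k) (hp2 : (p : ℤ) ∣ 1 + r + l) {M : Ideal AlgInt} (hM : IsPModular p M) :
    ∃ χ : IrrCharacter G, χ ∈ principalBlock M G ∧ charDegree (χ : G → ℂ) = f ∧
      ∀ g, (χ : G → ℂ) g = ∑ x : X, ker R k (Nat.card X) (r : ℂ) (s : ℂ) x (g • x) := by
  classical
  have hp := hM.2.1.isPrime
  obtain ⟨χ, f', h3, h4, h5⟩ := exists_irr h hab hrs h1 h2
  have h3' := h3
  have hrs0 : r - s ≠ 0 := sub_ne_zero.2 hrs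
  have hff : f' = f := by
    have h6 : (f' : ℤ) * (r - s) = f * (r - s) := by rw [h5, hf]
    exact_mod_cast mul_right_cancel₀ hrs0 h6
  subst hff
  have hdeg : charDegree (χ : G → ℂ) = f' := Blocks.Basic.charDegree_of_eq h4
  have hf0 : f' ≠ 0 := by
    intro h0
    have h6 := Blocks.Basic.irr_one_ne_zero χ.2
    rw [h4, h0] at h6
    exact h6 (by simp)
  have hn := h.cardn
  have hpar := h.params_eq hab
  have hnC : (Nat.card X : ℂ) = 1 + k + l := by exact_mod_cast hn
  have hn0 : (Nat.card X : ℂ) ≠ 0 := by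
    have : Nat.card X ≠ 0 := by omega
    exact_mod_cast this
  have hne : Nonempty X := by
    rw [← Finite.card_pos_iff]
    omega
  have hk0 : (k : ℂ) ≠ 0 := by exact_mod_cast h.k0.ne'
  have hl0 : (l : ℂ) ≠ 0 := by exact_mod_cast h.l0.ne'
  have hrsC : (r : ℂ) - s ≠ 0 := by exact_mod_cast hrs0
  have h1C : (r : ℂ) + s = a - b := by exact_mod_cast h1
  have h2C : (r : ℂ) * s = b - k := by exact_mod_cast h2
  have hpC : (k : ℂ) * k = k + k * a + l * b := by exact_mod_cast hpar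
  have hfC : (f' : ℂ) * (r - s) = -(s * (k + l) + k) := by exact_mod_cast hf
  -- the value of the kernel
  set A : ℂ := (f' : ℂ) / (Nat.card X : ℂ) with hA
  have hA0 : A ≠ 0 := div_ne_zero (by exact_mod_cast hf0) hn0
  have hAn : A * Nat.card X = f' := by rw [hA]; field_simp
  set om : Fin 3 → ℂ := ![1, (r : ℂ) / k, -(1 + r) / l] with hom
  have o0 : om 0 = 1 := rfl
  have o1 : om 1 = (r : ℂ) / k := rfl
  have o2 : om 2 = -(1 + (r : ℂ)) / l := rfl
  have hker : ∀ x y, ker R k (Nat.card X) (r : ℂ) (s : ℂ) x y = A * om (col R x y) := by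
    intro x y
    have hmul : ∀ z w : ℂ, z * (Nat.card X * (r - s)) = w * (Nat.card X * (r - s)) → z = w := fun z w hzw =>
      mul_right_cancel₀ (mul_ne_zero hn0 hrsC) hzw
    apply hmul
    have e1 : A * om (col R x y) * (Nat.card X * (r - s)) = -(s * (k + l) + k) * om (col R x y) := by
      rw [← hfC, ← hAn]
      ring
    have e2 : ker R k (Nat.card X) (r : ℂ) (s : ℂ) x y * (Nat.card X * (r - s)) =
        (adj R x y - s * dia x y) * Nat.card X - (k - s) := by
      unfold ker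
      field_simp
    rw [e1, e2, hnC]
    by_cases hxy : x = y
    · subst hxy
      have e3 : col R x x = 0 := col_zero.2 rfl
      have e4 : adj R x x = 0 := by unfold adj; rw [if_neg (h.irr x)]
      have e5 : dia x x = 1 := by unfold dia; rw [if_pos rfl]
      rw [e3, e4, e5, o0]
      ring
    · have e5 : dia x y = 0 := by unfold dia; rw [if_neg hxy]
      by_cases hR : R x y
      · have e3 : col R x y = 1 := (col_one h).2 hR
        have e4 : adj R x y = 1 := by unfold adj; rw [if_pos hR]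
        rw [e3, e4, e5, o1]
        rw [← mul_right_inj' hk0]
        have e6 : (k : ℂ) * (-(s * (k + l) + k) * ((r : ℂ) / k)) = -(s * (k + l) + k) * r := by field_simp
        rw [e6]
        linear_combination ((k : ℂ) + l) * h2C + (k : ℂ) * h1C - hpC
      · have e3 : col R x y = 2 := (col_two h).2 ⟨hxy, hR⟩
        have e4 : adj R x y = 0 := by unfold adj; rw [if_neg hR]
        rw [e3, e4, e5, o2]
        rw [← mul_right_inj' hl0]
        have e6 : (l : ℂ) * (-(s * (k + l) + k) * (-(1 + (r : ℂ)) / l)) = (s * (k + l) + k) * (1 + r) := by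
          field_simp
        rw [e6]
        linear_combination (-((k : ℂ) + l)) * h2C - (k : ℂ) * h1C + hpC
  refine ⟨χ, H582.Sph.mem_principal_of_sph hM (isCol_r3 h) χ (a := A) (ω := om) hA0 rfl ?_ ?_, hdeg, h3'⟩
  · intro g
    rw [h3 g, Finset.mul_sum]
    exact Finset.sum_congr rfl fun x _ => hker x (g • x)
  · intro x u
    obtain ⟨m1, hm1⟩ := hp1
    obtain ⟨m2, hm2⟩ := hp2
    have hint : ∀ m : ℤ, MemLocalIdeal M ((p : ℂ) * (m : ℂ)) := fun m => by
      refine lideal_mul_right hp (H582.Sph.lideal_prime hM) ?_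
      simpa using lring_coe hp (m : AlgInt)
    have h3 : u = 0 ∨ u = 1 ∨ u = 2 := by revert u; decide
    rcases h3 with rfl | rfl | rfl
    · rw [kk_zero]
      have : ((1 : ℕ) : ℂ) * om 0 - ((1 : ℕ) : ℂ) = (p : ℂ) * ((0 : ℤ) : ℂ) := by
        show ((1 : ℕ) : ℂ) * 1 - ((1 : ℕ) : ℂ) = _
        push_cast
        ring
      rw [this]
      exact hint 0
    · rw [kk_one h]
      have : (k : ℂ) * om 1 - k = (p : ℂ) * (m1 : ℂ) := by
        show (k : ℂ) * ((r : ℂ) / k) - k = _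
        have h7 : (r : ℂ) - k = p * m1 := by exact_mod_cast hm1
        rw [← h7]
        field_simp
      rw [this]
      exact hint m1
    · rw [kk_two h]
      have : (l : ℂ) * om 2 - l = (p : ℂ) * ((-m2 : ℤ) : ℂ) := by
        show (l : ℂ) * (-(1 + (r : ℂ)) / l) - l = _
        have h7 : 1 + (r : ℂ) + l = p * m2 := by exact_mod_cast hm2
        push_cast
        have h8 : (l : ℂ) * (-(1 + (r : ℂ)) / l) = -(1 + (r : ℂ)) := by field_simp
        rw [h8]
        linear_combination -h7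
      rw [this]
      exact hint (-m2)


end val

section aut

variable {S : Type u} [Group S] {X : Type v} [MulAction S X] {R : X → X → Prop} {k l : ℕ}

/-- the character of the group of automorphisms -/
theorem exists_aut {p : ℕ} [hp : Fact p.Prime] [Finite S] (h : R3 S X R k l) (hkl : k ≠ l)
    (hinj : ∀ x y : X, stabilizer S x = stabilizer S y → x = y) {a b : ℕ}
    (ha : ∀ x y, R x y → com R x y = a) (hb : ∀ x y, x ≠ y → ¬ R x y → com R x y = b)
    {r s : ℤ} (hrs : r ≠ s) (h1 : r + s = a - b) (h2 : r * s = b - k) {f : ℕ}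
    (hf : (f : ℤ) * (r - s) = -(s * (k + l) + k)) (hf1 : f ≠ 1) (hp1 : (p : ℤ) ∣ r - k) (hp2 : (p : ℤ) ∣ 1 + r + l)
    (A : Subgroup (MulAut S)) (hA : ∀ s : S, MulAut.conj s ∈ A)
    (hst : ∀ α ∈ A, ∀ x : X, ∃ y : X, (stabilizer S x).map (MulEquiv.toMonoidHom α) = stabilizer S y)
    (M : Ideal AlgInt) (hM : IsPModular p M) : ∃ χ : IrrCharacter A, χ ∈ principalBlock M A ∧
      charDegree (χ : A → ℂ) = f ∧ ∃ s : S, (χ : A → ℂ) ⟨MulAut.conj s, hA s⟩ ≠ (χ : A → ℂ) 1 := by
  classical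
  have _ : Finite X := finite_X h
  have _ := Fintype.ofFinite X
  let _ : MulAction A X := act A hinj hst
  have hc : ∀ (α : A) (g : S) (x : X), α • (g • x) = (α : MulAut S) g • (α • x) := act_smul A hinj hst
  have hcj : ∀ (s : S) (x : X), (⟨MulAut.conj s, hA s⟩ : A) • x = s • x := act_conj A hinj hst hA
  have hB := r3_big hA hc hcj h hkl
  obtain ⟨χ, hχ, d', v'⟩ := exists_mem_r3_val hB (hab_of hB ha hb) hrs h1 h2 hf hp1 hp2 hM
  obtain ⟨θ₀, g, v2, z2, d2, g1⟩ := exists_irr_int h (hab_of h ha hb) hrs h1 h2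
  refine ⟨χ, hχ, d', ?_⟩
  by_contra hcon
  push Not at hcon
  have hgf : g = f := by
    have h6 : (g : ℤ) * (r - s) = f * (r - s) := by rw [g1, hf]
    exact_mod_cast mul_right_cancel₀ (sub_ne_zero.2 hrs) h6
  subst hgf
  have e1 : ∀ t : S, (θ₀ : S → ℂ) t = (θ₀ : S → ℂ) 1 := by
    intro t
    have e2 : ∀ t : S, (χ : A → ℂ) ⟨MulAut.conj t, hA t⟩ = (θ₀ : S → ℂ) t := by
      intro t
      rw [v2, v']
      exact Finset.sum_congr rfl fun x _ => by rw [hcj]
    have e3 := e2 1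
    have e4 : (⟨MulAut.conj (1 : S), hA 1⟩ : A) = 1 := Subtype.ext (map_one _)
    rw [e4] at e3
    rw [← e2 t, hcon t, e3]
  apply hf1
  have := Fintype.ofFinite S
  have h3 := classInner_irr_self (G := S) θ₀.2
  rw [classInner_def] at h3
  have h4 := Cfsg.Agent.Blocks.Basic.irr_one_eq_charDegree θ₀.2
  rw [d2] at h4
  have h5 : ∑ t : S, (θ₀ : S → ℂ) t * (starRingEnd ℂ) ((θ₀ : S → ℂ) t) = Nat.card S * ((g : ℂ) * g) := by
    rw [Finset.sum_congr rfl fun t _ => by rw [e1 t, h4, map_natCast], Finset.sum_const, Finset.card_univ, nsmul_eq_mul,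
      Nat.card_eq_fintype_card]
  rw [h5, inv_mul_cancel_left₀ (by exact_mod_cast Nat.card_pos.ne')] at h3
  have h6 : g * g = 1 := by exact_mod_cast h3
  exact Nat.eq_one_of_mul_eq_one_left h6

/-- the character of an almost simple group -/
theorem exists_of_r3 {p : ℕ} [hp : Fact p.Prime] [Finite S] (h : R3 S X R k l) (hkl : k ≠ l)
    (hinj : ∀ x y : X, stabilizer S x = stabilizer S y → x = y) {a b : ℕ}
    (ha : ∀ x y, R x y → com R x y = a) (hb : ∀ x y, x ≠ y → ¬ R x y → com R x y = b)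
    {r s : ℤ} (hrs : r ≠ s) (h1 : r + s = a - b) (h2 : r * s = b - k) {f : ℕ}
    (hf : (f : ℤ) * (r - s) = -(s * (k + l) + k)) (hf1 : f ≠ 1) (hp1 : (p : ℤ) ∣ r - k) (hp2 : (p : ℤ) ∣ 1 + r + l)
    (hst : ∀ (α : MulAut S) (x : X), ∃ y : X, (stabilizer S x).map (MulEquiv.toMonoidHom α) = stabilizer S y)
    {A : Type w} [Group A] [Finite A] (N : Subgroup A) [N.Normal] (e : N ≃* S) (hC : centralizer (N : Set A) = ⊥)
    (M : Ideal AlgInt) (hM : IsPModular p M) : ∃ χ : IrrCharacter A, χ ∈ principalBlock M A ∧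
      charDegree (χ : A → ℂ) = f ∧ ∃ n ∈ N, (χ : A → ℂ) n ≠ (χ : A → ℂ) 1 := by
  classical
  obtain ⟨φ, hφ⟩ : ∃ φ : A →* MulAut S, φ = (MulAut.congr e).toMonoidHom.comp MulAut.conjNormal := ⟨_, rfl⟩
  have hφa : ∀ (a : A) (n : N), φ a (e n) = e (MulAut.conjNormal a n) := by
    intro a n
    rw [hφ]
    show e (MulAut.conjNormal a (e.symm (e n))) = _
    rw [e.symm_apply_apply]
  have hinjφ : Function.Injective φ := by
    rw [injective_iff_map_eq_one]
    intro a ha1
    have h3 : a ∈ centralizer (N : Set A) := by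
      rw [mem_centralizer_iff]
      intro n hn
      have h4 := hφa a ⟨n, hn⟩
      rw [ha1] at h4
      have h5 : (⟨n, hn⟩ : N) = MulAut.conjNormal a ⟨n, hn⟩ := e.injective h4
      have h6 := congrArg Subtype.val h5
      rw [MulAut.conjNormal_apply] at h6
      have h7 : n = a * n * a⁻¹ := h6
      -- `n * a = a * n`
      nth_rewrite 1 [h7]
      group
    rw [hC] at h3
    exact mem_bot.1 h3
  have hconj : ∀ n : N, φ n = MulAut.conj (e n) := by
    intro n
    ext s
    obtain ⟨m, rfl⟩ := e.surjective s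
    rw [hφa, MulAut.conj_apply, MulAut.conjNormal_val, MulAut.conj_apply, map_mul, map_mul, map_inv]
  have hA : ∀ s : S, MulAut.conj s ∈ φ.range := by
    intro s
    obtain ⟨n, rfl⟩ := e.surjective s
    exact ⟨n, hconj n⟩
  obtain ⟨χ, hχ, hd, s, hs⟩ := exists_aut h hkl hinj ha hb hrs h1 h2 hf hf1 hp1 hp2 φ.range hA (fun α _ => hst α) M hM
  let e' : A ≃* φ.range := MonoidHom.ofInjective hinjφ
  refine ⟨_, H684.BlockTools.infl_mem hM e'.toMonoidHom e'.surjective hχ, ?_, ?_⟩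
  · rw [← hd]
    show charDegree ((χ : φ.range → ℂ) ∘ e') = _
    rw [Blocks.Basic.charDegree_def, Blocks.Basic.charDegree_def, Function.comp_apply, map_one]
  · obtain ⟨n, rfl⟩ := e.surjective s
    refine ⟨n, n.2, ?_⟩
    show (χ : φ.range → ℂ) (e' n) ≠ (χ : φ.range → ℂ) (e' 1)
    rw [map_one]
    have e1 : e' n = ⟨MulAut.conj (e n), hA (e n)⟩ := Subtype.ext (hconj n)
    rw [e1]
    exact hs

/-- **the row of a rank 3 action** -/
theorem row_of_r3 {p : ℕ} [hp : Fact p.Prime] [Finite S] (h : R3 S X R k l) (hkl : k ≠ l)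
    (hinj : ∀ x y : X, stabilizer S x = stabilizer S y → x = y) {a b : ℕ}
    (ha : ∀ x y, R x y → com R x y = a) (hb : ∀ x y, x ≠ y → ¬ R x y → com R x y = b)
    {r s : ℤ} (hrs : r ≠ s) (h1 : r + s = a - b) (h2 : r * s = b - k) {f : ℕ}
    (hf : (f : ℤ) * (r - s) = -(s * (k + l) + k)) (hp1 : (p : ℤ) ∣ r - k) (hp2 : (p : ℤ) ∣ 1 + r + l)
    (hst : ∀ (α : MulAut S) (x : X), ∃ y : X, (stabilizer S x).map (MulEquiv.toMonoidHom α) = stabilizer S y)
    (hpf : p ∣ f) (hf0 : f ≠ 0)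
    (hle : ∀ {A : Type} [Group A] [Finite A] (N : Subgroup A) [N.Normal] (_ : N ≃* S) (P : Sylow p A) (a : ℕ), 0 < a →
      CD p a (P : Subgroup A) → f.factorization p ≤ a) : Row p S := by
  intro A _ _ N _ ⟨e⟩ hC M hM P a ha0 hcd
  obtain ⟨χ, hχ, hd, hn⟩ := exists_of_r3 h hkl hinj ha hb hrs h1 h2 hf
    (fun h1 => hp.out.one_lt.ne' (Nat.dvd_one.1 (h1 ▸ hpf))) hp1 hp2 hst N e hC M hM
  refine ⟨χ, hχ, hn, ?_, ?_⟩
  · unfold vd
    rw [hd]
    exact Nat.pos_of_ne_zero fun h0 => by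
      rw [Nat.factorization_eq_zero_iff] at h0
      rcases h0 with h0 | h0 | h0
      · exact h0 hp.out
      · exact h0 hpf
      · exact hf0 h0
  · unfold vd
    rw [hd]
    exact hle N e P a ha0 hcd

end aut

end Cfsg.Agent.H892.HT
end

-- part: H892/HT/ValF
section
/-!
# S4933: the valuation of the degree of the rank 3 character of `PSU_n(q)`, `p ∣ q + 1` (helper892)
-/

set_option autoImplicit false

namespace Cfsg.Agent.H892.HT

/-- the valuation of `f` -/
theorem val_f {p : ℕ} [hp : Fact p.Prime] (hp2 : p ≠ 2) {Q : ℤ} (hQ2 : Q ≤ -2) (hpQ : (p : ℤ) ∣ Q - 1) {f n : ℕ}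
    (hf : (f : ℤ) * ((Q - 1) * (Q ^ 2 - 1)) = Q ^ 2 * (Q ^ (n - 3) - 1) * (Q ^ n - 1)) :
    emultiplicity p f = emultiplicity p n + emultiplicity p (n - 3) := by
  have hpZ : Prime (p : ℤ) := Nat.prime_iff_prime_int.1 hp.out
  have hpQ0 : ¬ (p : ℤ) ∣ Q := by
    intro h
    have h1 := dvd_sub h hpQ
    rw [sub_sub_cancel] at h1
    have h2 : p ∣ 1 := by exact_mod_cast h1
    exact hp.out.one_lt.ne' (Nat.dvd_one.1 h2)
  have hodd : Odd p := hp.out.odd_of_ne_two hp2
  have key : ∀ j : ℕ, emultiplicity (p : ℤ) (Q ^ j - 1) = emultiplicity (p : ℤ) (Q - 1) + emultiplicity p j := by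
    intro j
    have := Int.emultiplicity_pow_sub_pow hp.out hodd (x := Q) (y := 1) hpQ hpQ0 j
    rwa [one_pow] at this
  have h2 : emultiplicity p 2 = 0 := by
    rw [emultiplicity_eq_zero]
    intro h
    exact hp2 ((Nat.prime_dvd_prime_iff_eq hp.out Nat.prime_two).1 h)
  have hQQ : emultiplicity (p : ℤ) (Q ^ 2) = 0 := by
    rw [emultiplicity_eq_zero]
    intro h
    exact hpQ0 (hpZ.dvd_of_dvd_pow h)
  have hfin : FiniteMultiplicity (p : ℤ) (Q - 1) := by
    rw [Int.finiteMultiplicity_iff]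
    refine ⟨?_, by omega⟩
    simpa using hp.out.ne_one
  have h3 := congrArg (emultiplicity (p : ℤ)) hf
  rw [emultiplicity_mul hpZ, emultiplicity_mul hpZ, emultiplicity_mul hpZ, emultiplicity_mul hpZ, key 2, key, key, h2,
    hQQ, Int.natCast_emultiplicity, hfin.emultiplicity_eq_multiplicity] at h3
  obtain ⟨e, he⟩ : ∃ e : ℕ, e = multiplicity (p : ℤ) (Q - 1) := ⟨_, rfl⟩
  rw [← he] at h3
  have h4 : emultiplicity p f + ((e + e : ℕ) : ℕ∞) = (emultiplicity p n + emultiplicity p (n - 3)) + ((e + e : ℕ) : ℕ∞) := by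
    push_cast
    rw [add_zero, zero_add] at h3
    rw [h3]
    ac_rfl
  exact (ENat.add_left_injective_of_ne_top (ENat.natCast_ne_top _)) h4

theorem factorization_eq {p f c : ℕ} (hp : p.Prime) (h : emultiplicity p f = c) : f.factorization p = c := by
  have : Fact p.Prime := ⟨hp⟩
  have h1 := multiplicity_eq_of_emultiplicity_eq_some h
  rw [Nat.factorization_def _ hp, ← h1]
  rcases Nat.eq_zero_or_pos f with rfl | hf
  · rw [emultiplicity_zero] at h
    exact absurd h (ENat.natCast_ne_top c).symm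
  · exact padicValNat_def hf.ne'

end Cfsg.Agent.H892.HT
end

-- part: H314/CY/Loc
section
/-!
# S4829, `p ∣ Q - 1`: the local condition at a Sylow subgroup (helper314)

`locQ_of_sylow` : the local condition `LocQ` of helper769 for a Sylow `p`-subgroup, from ONE `p`-element `z` which fixes
one point `x₀`;
`com_of_r3` : the intersection numbers of a rank 3 graph from one of them.
-/

set_option autoImplicit false
set_option linter.unusedSectionVars false

open MulAction

namespace Cfsg.Agent.H314.CY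

open Cfsg.Agent.H690.Spor.RankThree Cfsg.Agent.H690.Spor.RankThree.R3

universe u v

section

variable {S : Type u} [Group S] {X : Type v} [MulAction S X] {R : X → X → Prop}

/-- **the intersection numbers** -/
theorem com_of_r3 [Finite S] [Finite X] {k l b : ℕ} (h : R3 S X R k l) {x₀ y₀ : X} (hxy : x₀ ≠ y₀) (hR : ¬ R x₀ y₀)
    (hb : com R x₀ y₀ = b) : ∃ a : ℕ, (∀ x y, R x y → com R x y = a) ∧ (∀ x y, x ≠ y → ¬ R x y → com R x y = b) ∧
      k * k = k + k * a + l * b := by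
  classical
  have := Fintype.ofFinite X
  obtain ⟨a, b', hab⟩ := h.exists_params
  have hp := h.params_eq hab
  have hbb : b' = b := by rw [← hb]; exact (Cfsg.Agent.H113.PSU.Rank3.params_b hab hxy hR).symm
  subst hbb
  refine ⟨a, fun x y hx => ?_, fun x y hx hx' => Cfsg.Agent.H113.PSU.Rank3.params_b hab hx hx', hp⟩
  have h1 := hab x y
  rw [sum_mul] at h1
  have e1 : dia x y = 0 := if_neg (by rintro rfl; exact h.irr _ hx)
  have e2 : adj R x y = 1 := if_pos hx
  rw [e1, e2, mul_zero, mul_one, zero_add, sub_add_cancel] at h1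
  exact_mod_cast h1

end

end Cfsg.Agent.H314.CY
end

-- part: H314/CY/Comb
section
/-!
# S4829, `p ∣ Q - 1` : the rank 3 row from one hyperbolic pair (helper314)

`rowA_of_point` : `rowA_of_r3` (helper769) with the local condition at a Sylow subgroup (`locQ_of_sylow`) and the
intersection numbers from one of them (`com_of_r3`); `inj_of_r3` : a point is determined by its stabilizer.
-/

set_option autoImplicit false
set_option linter.unusedSectionVars false

open MulAction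

namespace Cfsg.Agent.H314.CY

open Cfsg Cfsg.Agent.H690.Spor.RankThree Cfsg.Agent.H690.Spor.RankThree.R3 Cfsg.Agent.H770.CY

universe u v

/-- a point is determined by its stabilizer -/
theorem inj_of_r3 {S : Type u} [Group S] {X : Type v} [MulAction S X] [Finite X] {R : X → X → Prop} {k l : ℕ}
    (h : R3 S X R k l) (hk : 1 < k) (hl : 1 < l) (x y : X) (hxy : stabilizer S x = stabilizer S y) : x = y := by
  classical
  have := Fintype.ofFinite X
  by_contra hne
  by_cases hR : R x y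
  · have h1 := h.cardk x
    rw [← h1, Finite.one_lt_card_iff_nontrivial] at hk
    obtain ⟨⟨z, hz⟩, hzy⟩ := exists_ne (⟨y, hR⟩ : {y // R x y})
    obtain ⟨g, hg1, hg2⟩ := h.one x y x z hR hz
    have hg : g ∈ stabilizer S y := hxy ▸ mem_stabilizer_iff.2 hg1
    rw [mem_stabilizer_iff] at hg
    rw [hg] at hg2
    exact hzy (Subtype.ext hg2.symm)
  · have hn := h.cardn
    have h1 := h.cardk x
    obtain ⟨z, hz1, hz2, hz3⟩ : ∃ z, z ≠ x ∧ z ≠ y ∧ ¬ R x z := by
      by_contra hcon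
      push Not at hcon
      have h2 : (Finset.univ : Finset X) ⊆ {x, y} ∪ Finset.univ.filter (fun y => R x y) := by
        intro z _
        rw [Finset.mem_union, Finset.mem_insert, Finset.mem_singleton, Finset.mem_filter]
        by_cases e1 : z = x
        · exact Or.inl (Or.inl e1)
        · by_cases e2 : z = y
          · exact Or.inl (Or.inr e2)
          · exact Or.inr ⟨Finset.mem_univ _, hcon z e1 e2⟩
      have h3 := (Finset.card_le_card h2).trans (Finset.card_union_le _ _)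
      rw [Finset.card_univ, ← Nat.card_eq_fintype_card, hn] at h3
      have h4 : (Finset.univ.filter (fun y => R x y)).card = k := by
        rw [← h1, Nat.card_eq_fintype_card, Fintype.card_subtype]
      have h5 : ({x, y} : Finset X).card ≤ 2 := Finset.card_le_two
      omega
    obtain ⟨g, hg1, hg2⟩ := h.two x y x z hne hR hz1.symm hz3
    have hg : g ∈ stabilizer S y := hxy ▸ mem_stabilizer_iff.2 hg1
    rw [mem_stabilizer_iff] at hg
    rw [hg] at hg2
    exact hz2 hg2.symm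

end Cfsg.Agent.H314.CY
end

-- part: H314/CY/PsuAct
section
/-!
# S4829, `PSU_n(q)`, `p ∣ q - 1` : the action on the isotropic points (helper314)

`Pts hF hn` : the isotropic points with the action of `PSU n F q`; `r3p` : rank 3; `hst` : every automorphism maps the
stabilizers of points onto stabilizers of points.
-/

set_option autoImplicit false
set_option linter.unusedSectionVars false

open MulAction Matrix

namespace Cfsg.Agent.H314.CY

open Cfsg Cfsg.Agent.LieClassical.HermBasic Cfsg.Agent.LieClassical.HermSiegel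
open Cfsg.Agent.H690.Spor.RankThree Cfsg.Agent.H690.Spor.RankThree.R3 Cfsg.Agent.H113.PSU.Points
open Cfsg.Agent.ClassicalGeometry.PSUAutBasic Cfsg.Agent.ClassicalGeometry.PSUAutCount

universe u v

namespace Psu

variable {F : Type u} [Field F] [Fintype F] {q n m : ℕ}

/-- the centre acts trivially on the points -/
theorem center_smul (hF : Fintype.card F = q ^ 2) (hn : 3 ≤ n) {z : SU n F q} (hz : z ∈ Subgroup.center (SU n F q))
    (y : Pt n F q) : z • y = y := by
  obtain ⟨c, hc, -, hc'⟩ := exists_scalar_of_mem_center hF hn hz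
  obtain ⟨v, h0, hv, rfl⟩ := exists_pt y
  rw [smul_pt, pt_eq_iff]
  exact ⟨c, hc, hc' v⟩

/-- `PSU_n(q)` on the points -/
noncomputable def hom (hF : Fintype.card F = q ^ 2) (hn : 3 ≤ n) : PSU n F q →* Equiv.Perm (Pt n F q) :=
  QuotientGroup.lift (Subgroup.center (SU n F q)) (MulAction.toPermHom (SU n F q) (Pt n F q))
    (fun _ hz => Equiv.ext fun y => center_smul hF hn hz y)

/-- the isotropic points, with the action of `PSU_n(q)` -/
def Pts (_hF : Fintype.card F = q ^ 2) (_hn : 3 ≤ n) : Type u := Pt n F q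

noncomputable instance actPts (hF : Fintype.card F = q ^ 2) (hn : 3 ≤ n) : MulAction (PSU n F q) (Pts hF hn) :=
  MulAction.compHom (Pt n F q) (hom hF hn)

instance finPts (hF : Fintype.card F = q ^ 2) (hn : 3 ≤ n) : Finite (Pts hF hn) := finite_Pt (n := n) (F := F) (q := q)

/-- the point of a vector -/
def mk (hF : Fintype.card F = q ^ 2) (hn : 3 ≤ n) (v : Fin n → F) (h0 : v ≠ 0) (h : hermForm n F q v v = 0) :
    Pts hF hn := pt v h0 h

theorem pr_smul_mk (hF : Fintype.card F = q ^ 2) (hn : 3 ≤ n) (g : SU n F q) {v : Fin n → F} (h0 : v ≠ 0)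
    (h : hermForm n F q v v = 0) : pr n F q g • mk hF hn v h0 h =
      mk hF hn (act g v) (fun h1 => h0 ((act_eq_zero g).1 h1)) (by rw [herm_act, h]) := smul_pt g h0 h

theorem exists_mk (hF : Fintype.card F = q ^ 2) (hn : 3 ≤ n) (x : Pts hF hn) :
    ∃ (v : Fin n → F) (h0 : v ≠ 0) (h : hermForm n F q v v = 0), x = mk hF hn v h0 h := exists_pt x

theorem mk_eq_iff (hF : Fintype.card F = q ^ 2) (hn : 3 ≤ n) {v w : Fin n → F} {h0 : v ≠ 0}
    {h : hermForm n F q v v = 0} {h0' : w ≠ 0} {h' : hermForm n F q w w = 0} :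
    mk hF hn v h0 h = mk hF hn w h0' h' ↔ ∃ c : F, c ≠ 0 ∧ v = c • w := pt_eq_iff

/-- perpendicular and distinct -/
def PRel (hF : Fintype.card F = q ^ 2) (hn : 3 ≤ n) (x y : Pts hF hn) : Prop := Rel (x : Pt n F q) (y : Pt n F q)

/-- **rank 3** -/
theorem r3p (hF : Fintype.card F = q ^ 2) (hm : 2 ≤ m) (hn : 3 ≤ m + 2) : ∃ b : ℕ, 0 < b ∧
    ((q : ℤ) ^ 2 - 1) * b = ((q : ℤ) ^ m - (-1) ^ m) * (q ^ (m - 1) + (-1) ^ m) ∧
    R3 (PSU (m + 2) F q) (Pts hF hn) (PRel hF hn) (q ^ 2 * b) (q ^ (2 * m + 1)) ∧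
    ∃ x₀ y₀ : Pts hF hn, x₀ ≠ y₀ ∧ ¬ PRel hF hn x₀ y₀ ∧ com (PRel hF hn) x₀ y₀ = b := by
  obtain ⟨b, hb0, hb, h3, hxy⟩ := r3 (F := F) (m := m) hF hm
  refine ⟨b, hb0, hb, ?_, hxy⟩
  have htr := h3.trans
  refine ⟨⟨fun x y => ?_⟩, h3.symm, h3.irr, ?_, ?_, ?_, h3.cardk, h3.k0, h3.l0, h3.cardn⟩
  · obtain ⟨g, hg⟩ := htr.exists_smul_eq (x : Pt (m + 2) F q) (y : Pt (m + 2) F q)
    exact ⟨pr _ F q g, hg⟩
  · intro g x y hxy
    obtain ⟨g, rfl⟩ := pr_surjective g
    exact h3.inv g x y hxy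
  · intro x y x' y' h1 h2
    obtain ⟨g, hg1, hg2⟩ := h3.one x y x' y' h1 h2
    exact ⟨pr _ F q g, hg1, hg2⟩
  · intro x y x' y' h1 h2 h4 h5
    obtain ⟨g, hg1, hg2⟩ := h3.two x y x' y' h1 h2 h4 h5
    exact ⟨pr _ F q g, hg1, hg2⟩

section semi

/-- the semilinear map -/
def sm (A : GU n F q) (ρ : F ≃+* F) (v : Fin n → F) : Fin n → F := gm A *ᵥ fun i => ρ (v i)

theorem sm_smul (A : GU n F q) (ρ : F ≃+* F) (c : F) (v : Fin n → F) : sm A ρ (c • v) = ρ c • sm A ρ v := by
  unfold sm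
  rw [← Matrix.mulVec_smul]
  congr 1
  funext i
  rw [Pi.smul_apply, Pi.smul_apply, smul_eq_mul, map_mul, smul_eq_mul]

theorem sm_inj (A : GU n F q) (ρ : F ≃+* F) {v w : Fin n → F} (h : sm A ρ v = sm A ρ w) : v = w := by
  have h1 := congrArg (fun u => gm A⁻¹ *ᵥ u) h
  simp only [sm, gm_inv_mulVec] at h1
  funext i
  exact ρ.injective (congrFun h1 i)

theorem sm_zero (A : GU n F q) (ρ : F ≃+* F) : sm A ρ 0 = 0 := by
  have h := sm_smul A ρ 0 0
  rwa [zero_smul, map_zero, zero_smul] at h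

theorem act_sm (A : GU n F q) (ρ : F ≃+* F) (g : SU n F q) (v : Fin n → F) :
    act (semiConj A ρ g) (sm A ρ v) = sm A ρ (act g v) := act_semiConj A ρ g v

theorem herm_sm (A : GU n F q) (ρ : F ≃+* F) (u v : Fin n → F) :
    hermForm n F q (sm A ρ u) (sm A ρ v) = ρ (hermForm n F q u v) := herm_semi A ρ u v

theorem mem_stab_iff (hF : Fintype.card F = q ^ 2) (hn : 3 ≤ n) {v : Fin n → F} {h0 : v ≠ 0}
    {h : hermForm n F q v v = 0} (g : SU n F q) :
    pr n F q g ∈ stabilizer (PSU n F q) (mk hF hn v h0 h) ↔ ∃ c : F, c ≠ 0 ∧ act g v = c • v := by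
  rw [mem_stabilizer_iff, pr_smul_mk, mk_eq_iff]

/-- **automorphisms map stabilizers of points onto stabilizers of points** -/
theorem hst (hF : Fintype.card F = q ^ 2) (hn : 3 ≤ n) (h32 : ¬ (n = 3 ∧ q = 2)) (α : MulAut (PSU n F q))
    (x : Pts hF hn) : ∃ y : Pts hF hn, (stabilizer (PSU n F q) x).map α.toMonoidHom = stabilizer (PSU n F q) y := by
  obtain ⟨A, ρ, rfl⟩ := ClassicalGeometry.PSUAutMain.exists_toAut hF hn h32 α
  obtain ⟨v, h0, hv, rfl⟩ := exists_mk hF hn x
  refine ⟨mk hF hn (sm A ρ v) (fun h1 => h0 (sm_inj A ρ (h1.trans (sm_zero A ρ).symm)))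
    (by rw [herm_sm, hv, map_zero]), ?_⟩
  have key : ∀ g : SU n F q, pr n F q g ∈ stabilizer (PSU n F q) (mk hF hn v h0 hv) ↔
      toAut A ρ (pr n F q g) ∈ stabilizer (PSU n F q) (mk hF hn (sm A ρ v)
        (fun h1 => h0 (sm_inj A ρ (h1.trans (sm_zero A ρ).symm))) (by rw [herm_sm, hv, map_zero])) := by
    intro g
    have e : toAut A ρ (pr n F q g) = pr n F q (semiConj A ρ g) := rfl
    rw [e, mem_stab_iff, mem_stab_iff, act_sm]
    constructor
    · rintro ⟨c, hc, hc'⟩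
      exact ⟨ρ c, (map_ne_zero ρ).2 hc, by rw [hc', sm_smul]⟩
    · rintro ⟨c, hc, hc'⟩
      refine ⟨ρ.symm c, (map_ne_zero ρ.symm).2 hc, sm_inj A ρ ?_⟩
      rw [hc', sm_smul, ρ.apply_symm_apply]
  ext w
  constructor
  · rintro ⟨w, hw, rfl⟩
    obtain ⟨g, rfl⟩ := pr_surjective w
    exact (key g).1 hw
  · intro hw
    obtain ⟨w, rfl⟩ := (toAut A ρ).surjective w
    obtain ⟨g, rfl⟩ := pr_surjective w
    exact ⟨_, (key g).2 hw, rfl⟩

end semi

end Psu

end Cfsg.Agent.H314.CY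
end

-- part: H892/HT/DiagPsu
section
/-!
# S4933: `PSU_n(q)`, `p ∣ q + 1`: the rank 3 character of the eigenvalue `(-q)^(n-2) - 1` (helper892)

Its degree is `f = Q² (Q^n - 1) (Q^(n-3) - 1) / ((Q - 1) (Q² - 1))`, `Q = -q`; it is in the principal block, and
`v_p(f) = v_p(n) + v_p(n-3)`.
-/

set_option autoImplicit false
set_option linter.unusedSectionVars false

open MulAction Matrix

namespace Cfsg.Agent.H892.HT

open Cfsg Cfsg.Agent.LieClassical.HermBasic Cfsg.Agent.LieClassical.HermSiegel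
open Cfsg.Agent.H690.Spor.RankThree Cfsg.Agent.H690.Spor.RankThree.R3
open Cfsg.Agent.ClassicalGeometry.PSUAutBasic Cfsg.Agent.ClassicalGeometry
open Cfsg.Agent.H314.CY Cfsg.Agent.H314.CY.Psu Cfsg.Agent.H316.HT

variable {F : Type} [Field F] [Fintype F] {q n : ℕ}

/-- **the row from the rank 3 character**, up to the bound for the degree -/
theorem row_psu_of_le (hF : Fintype.card F = q ^ 2) (hn : 4 ≤ n) {p : ℕ} [hp : Fact p.Prime] (hp2 : p ≠ 2)
    (hpq : p ∣ q + 1)
    (hle : ∀ f : ℕ, (f : ℤ) * ((-(q : ℤ) - 1) * ((-(q : ℤ)) ^ 2 - 1)) = (-(q : ℤ)) ^ 2 * ((-(q : ℤ)) ^ (n - 3) - 1) *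
      ((-(q : ℤ)) ^ n - 1) → p ∣ f ∧ ∀ {A : Type} [Group A] [Finite A] (N : Subgroup A) [N.Normal] (_ : N ≃* PSU n F q)
      (P : Sylow p A) (a : ℕ), 0 < a → CD p a (P : Subgroup A) → f.factorization p ≤ a) : Row p (PSU n F q) := by
  classical
  obtain ⟨m, rfl⟩ : ∃ m, n = m + 2 := ⟨n - 2, by omega⟩
  have hm : 2 ≤ m := by omega
  have hn3 : 3 ≤ m + 2 := by omega
  have hq2 := two_le hF
  obtain ⟨b, hb0, hb, hr3, x₁, y₁, hxy, hR, hcom⟩ := r3p (F := F) (m := m) hF hm hn3
  have : Finite (Pts hF hn3) := H769.CY.finite_X hr3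
  have := Fintype.ofFinite (Pts hF hn3)
  obtain ⟨a, ha, hb', hpar⟩ := com_of_r3 hr3 hxy hR hcom
  -- the numbers
  obtain ⟨Q, hQ⟩ : ∃ Q : ℤ, Q = -(q : ℤ) := ⟨_, rfl⟩
  rw [← hQ] at hle
  have hpQ : (p : ℤ) ∣ Q - 1 := by
    have h1 : (p : ℤ) ∣ (q : ℤ) + 1 := by exact_mod_cast Int.natCast_dvd_natCast.2 hpq
    rw [hQ]
    have h2 : -(q : ℤ) - 1 = -((q : ℤ) + 1) := by ring
    rw [h2]
    exact (dvd_neg).2 h1
  have hQ2 : Q ≤ -2 := by rw [hQ]; have : (2 : ℤ) ≤ q := by exact_mod_cast hq2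
                          linarith only [hq2]
  obtain ⟨T, hT⟩ : ∃ T : ℤ, T = Q ^ (m - 1) := ⟨_, rfl⟩
  have hT1 : Q ^ m = Q * T := by
    rw [hT, ← pow_succ']; congr 1; omega
  have hT0 : T ≠ 0 := by rw [hT]; exact pow_ne_zero _ (by omega)
  have hsg : (-1 : ℤ) ^ m * (-1) ^ m = 1 := by rw [← mul_pow]; simp
  have hqm : (q : ℤ) ^ m = (-1) ^ m * Q ^ m := by
    rw [hQ, ← mul_pow, neg_one_mul, neg_neg]
  have hqm1 : (q : ℤ) ^ (m - 1) = -(-1) ^ m * T := by
    have h1 : (-1 : ℤ) ^ m = (-1) * (-1) ^ (m - 1) := by rw [← pow_succ']; congr 1; omega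
    have h2 : (q : ℤ) ^ (m - 1) = (-1) ^ (m - 1) * Q ^ (m - 1) := by
      rw [hQ, ← mul_pow, neg_one_mul, neg_neg]
    rw [h2, h1, hT]
    ring
  have hqQ : (q : ℤ) ^ 2 = Q ^ 2 := by rw [hQ]; ring
  have hbQ : (Q ^ 2 - 1) * (b : ℤ) = -((Q * T - 1) * (T - 1)) := by
    rw [← hqQ, hb, hqm, hqm1, hT1]
    linear_combination (-((Q * T - 1) * (T - 1))) * hsg
  have hk : ((q ^ 2 * b : ℕ) : ℤ) = Q ^ 2 * b := by push_cast; rw [hqQ]
  have hl : ((q ^ (2 * m + 1) : ℕ) : ℤ) = -(Q ^ 3 * T ^ 2) := by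
    push_cast
    have h1 : 2 * m + 1 = m + m + 1 := by ring
    rw [h1, pow_succ, pow_add, hqm, hT1]
    have h2 : (q : ℤ) = -Q := by rw [hQ, neg_neg]
    rw [h2]
    linear_combination (-(Q ^ 3 * T ^ 2)) * hsg
  have hQ21 : Q ^ 2 - 1 ≠ 0 := by nlinarith only [hq2, hqQ]
  have hpT : (p : ℤ) ∣ T - 1 := by
    rw [hT]
    have := sub_dvd_pow_sub_pow Q 1 (m - 1)
    rw [one_pow] at this
    exact hpQ.trans this
  have hpTm : (p : ℤ) ∣ Q * T - 1 := by
    rw [← hT1]
    have := sub_dvd_pow_sub_pow Q 1 m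
    rw [one_pow] at this
    exact hpQ.trans this
  have hpQ1 : ¬ (p : ℤ) ∣ Q + 1 := by
    intro h
    have h1 := dvd_sub h hpQ
    have h2 : Q + 1 - (Q - 1) = 2 := by ring
    rw [h2] at h1
    have h3 : p ∣ 2 := by exact_mod_cast h1
    exact hp2 ((Nat.prime_dvd_prime_iff_eq hp.out Nat.prime_two).1 h3)
  have hpZ : Prime (p : ℤ) := Nat.prime_iff_prime_int.1 hp.out
  have hpb : (p : ℤ) ∣ b := by
    obtain ⟨t, ht⟩ := sub_dvd_pow_sub_pow Q 1 (m - 1)
    rw [one_pow, ← hT] at ht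
    have h1 : (Q + 1) * (b : ℤ) = -((Q * T - 1) * t) := by
      apply mul_left_cancel₀ (show Q - 1 ≠ 0 by omega)
      linear_combination hbQ - (Q * T - 1) * ht
    have h2 : (p : ℤ) ∣ (Q + 1) * b := by
      rw [h1]
      exact (dvd_neg).2 (hpTm.mul_right _)
    exact (hpZ.dvd_or_dvd h2).resolve_left hpQ1
  have hQT : Q ∣ T := by
    rw [hT]
    exact dvd_pow_self _ (by omega)
  have hrs : Q * T - 1 ≠ T - 1 := by
    intro h
    have h1 : (Q - 1) * T = 0 := by linear_combination h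
    rcases mul_eq_zero.1 h1 with h | h
    · omega
    · exact hT0 h
  have hb0' : (b : ℤ) ≠ 0 := by exact_mod_cast hb0.ne'
  have h2 : (Q * T - 1) * (T - 1) = b - ((q ^ 2 * b : ℕ) : ℤ) := by
    rw [hk]
    linear_combination hbQ
  have h1 : (Q * T - 1) + (T - 1) = a - b := by
    have h3 : ((q ^ 2 * b : ℕ) : ℤ) * ((q ^ 2 * b : ℕ) : ℤ) = (q ^ 2 * b : ℕ) + ((q ^ 2 * b : ℕ) : ℤ) * a +
        ((q ^ (2 * m + 1) : ℕ) : ℤ) * b := by exact_mod_cast hpar
    rw [hk, hl] at h3
    apply mul_left_cancel₀ (mul_ne_zero (pow_ne_zero 2 (show Q ≠ 0 by omega)) hb0')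
    linear_combination h3 - (Q ^ 2 * b) * hbQ
  have hkl : q ^ 2 * b ≠ q ^ (2 * m + 1) := by
    intro h
    have h3 : Q ^ 2 * (b : ℤ) = -(Q ^ 3 * T ^ 2) := by rw [← hk, h, hl]
    have h4 : (b : ℤ) = -(Q * T ^ 2) := by
      apply mul_left_cancel₀ (pow_ne_zero 2 (show Q ≠ 0 by omega))
      linear_combination h3
    rw [h4] at hbQ
    obtain ⟨T', hT'⟩ := hQT
    have h5 : Q ∣ 1 := by
      refine ⟨(Q ^ 2 - 1) * T ^ 2 - T ^ 2 + T + T', ?_⟩
      linear_combination hbQ + hT'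
    have := Int.isUnit_iff.1 (isUnit_of_dvd_one h5)
    omega
  have hk1 : 1 < q ^ 2 * b := by
    have : 4 ≤ q ^ 2 := by nlinarith only [hq2]
    nlinarith only [hb0, this]
  have hl1 : 1 < q ^ (2 * m + 1) := Nat.one_lt_pow (by omega) (by omega)
  obtain ⟨-, f, -, -, -, hf⟩ := H968.Imc.exists_irr_int hr3 (H769.CY.hab_of hr3 ha hb') hrs h1 h2
  have hfe : (f : ℤ) * ((Q - 1) * (Q ^ 2 - 1)) = Q ^ 2 * (Q ^ (m + 2 - 3) - 1) * (Q ^ (m + 2) - 1) := by
    have e1 : m + 2 - 3 = m - 1 := by omega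
    have e2 : Q ^ (m + 2) = Q ^ 3 * T := by
      rw [pow_add, hT1]; ring
    rw [e1, ← hT, e2]
    rw [hk, hl] at hf
    apply mul_left_cancel₀ hT0
    linear_combination (Q ^ 2 - 1) * hf - (T * Q ^ 2) * hbQ
  obtain ⟨hpf, hle'⟩ := hle f hfe
  have hpow : ∀ j : ℕ, j ≠ 0 → Q ^ j - 1 ≠ 0 := by
    intro j hj h
    have h3 : Q ∣ 1 := by
      have h4 : Q ^ j = 1 := by linarith only [h]
      rw [← h4]
      exact dvd_pow_self Q hj
    have := Int.isUnit_iff.1 (isUnit_of_dvd_one h3)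
    omega
  have hf0 : f ≠ 0 := by
    rintro rfl
    rw [Nat.cast_zero, zero_mul] at hfe
    rcases mul_eq_zero.1 hfe.symm with h | h
    · rcases mul_eq_zero.1 h with h | h
      · exact absurd h (pow_ne_zero 2 (by omega))
      · exact hpow _ (by omega) h
    · exact hpow _ (by omega) h
  exact row_of_r3 hr3 hkl (inj_of_r3 hr3 hk1 hl1) ha hb' hrs h1 h2 hf (by
      rw [hk]
      exact dvd_sub hpTm (hpb.mul_left _)) (by
      rw [hl]
      have h3 : (p : ℤ) ∣ Q ^ (m + 1) - 1 := by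
        have := sub_dvd_pow_sub_pow Q 1 (m + 1)
        rw [one_pow] at this
        exact hpQ.trans this
      have h4 : Q ^ (m + 1) = Q ^ 2 * T := by rw [pow_succ, hT1]; ring
      rw [h4] at h3
      have h5 : 1 + (Q * T - 1) + -(Q ^ 3 * T ^ 2) = -(Q * T) * (Q ^ 2 * T - 1) := by ring
      rw [h5]
      exact h3.mul_left _)
    (hst hF hn3 (by rintro ⟨h, -⟩; omega)) hpf hf0 hle'

/-- **`PSU_n(q)`, `p ∣ q + 1`**: valuation one -/
theorem row_psu_one (hF : Fintype.card F = q ^ 2) (hn : 4 ≤ n) {p : ℕ} [hp : Fact p.Prime] (hp2 : p ≠ 2)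
    (hpq : p ∣ q + 1) (h1 : emultiplicity p n + emultiplicity p (n - 3) = 1) : Row p (PSU n F q) := by
  refine row_psu_of_le hF hn hp2 hpq fun f hf => ?_
  have hq2 : (2 : ℤ) ≤ q := by exact_mod_cast two_le hF
  have hpQ : (p : ℤ) ∣ -(q : ℤ) - 1 := by
    have h1 : (p : ℤ) ∣ (q : ℤ) + 1 := by exact_mod_cast Int.natCast_dvd_natCast.2 hpq
    have h2 : -(q : ℤ) - 1 = -((q : ℤ) + 1) := by ring
    rw [h2]
    exact (dvd_neg).2 h1
  have h2 := val_f hp2 (Q := -(q : ℤ)) (by linarith only [hq2]) hpQ hf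
  rw [h1] at h2
  have h3 := factorization_eq (c := 1) hp.out (by rw [h2]; rfl)
  refine ⟨?_, fun N _ _ P a ha _ => by rw [h3]; exact ha⟩
  by_contra h4
  rw [Nat.factorization_eq_zero_of_not_dvd h4] at h3
  omega

/-- **`PSU_6(q)`, `3 ∣ q + 1`**, two commuting nonabelian pairs -/
theorem row_psu_six (hF : Fintype.card F = q ^ 2) (hpq : 3 ∣ q + 1) {Y : Type} [Group Y] (g : Y →* PSU 6 F q)
    (hg : Function.Injective g) (hY : IsPGroup 3 Y) {x₁ y₁ x₂ y₂ : Y} (h1 : x₁ * y₁ ≠ y₁ * x₁)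
    (h2 : x₂ * y₂ ≠ y₂ * x₂) (c1 : Commute x₁ x₂) (c2 : Commute x₁ y₂) (c3 : Commute y₁ x₂)
    (c4 : Commute y₁ y₂) : Row 3 (PSU 6 F q) := by
  have : Fact (Nat.Prime 3) := ⟨Nat.prime_three⟩
  refine row_psu_of_le hF (by norm_num) (by norm_num) hpq fun f hf => ?_
  have hq2 : (2 : ℤ) ≤ q := by exact_mod_cast two_le hF
  have hpQ : ((3 : ℕ) : ℤ) ∣ -(q : ℤ) - 1 := by
    have h1 : ((3 : ℕ) : ℤ) ∣ (q : ℤ) + 1 := by exact_mod_cast Int.natCast_dvd_natCast.2 hpq
    have h2 : -(q : ℤ) - 1 = -((q : ℤ) + 1) := by ring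
    rw [h2]
    exact (dvd_neg).2 h1
  have h3 := val_f (by norm_num) (Q := -(q : ℤ)) (by linarith) hpQ hf
  have e1 : emultiplicity 3 6 = 1 := by
    rw [show (1 : ℕ∞) = ((1 : ℕ) : ℕ∞) from rfl, emultiplicity_eq_coe]
    decide
  have e2 : emultiplicity 3 (6 - 3) = 1 := by
    rw [show (1 : ℕ∞) = ((1 : ℕ) : ℕ∞) from rfl, emultiplicity_eq_coe]
    decide
  rw [e1, e2] at h3
  have h4 := factorization_eq (c := 2) Nat.prime_three (by rw [h3]; rfl)
  refine ⟨?_, fun N _ e P a ha hcd => ?_⟩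
  · by_contra h5
    rw [Nat.factorization_eq_zero_of_not_dvd h5] at h4
    omega
  · rw [h4]
    by_contra h5
    obtain rfl : a = 1 := by omega
    obtain ⟨i, hi⟩ := H681.IP.exists_hom P (N.subtype.comp (e.symm.toMonoidHom.comp g))
      (fun a b hab => hg (e.symm.injective (Subtype.val_injective hab))) hY
    exact (H681.IP.TD.of_CD hcd).false_of_pairs Nat.prime_three P.isPGroup' (x₁ := i x₁) (y₁ := i y₁) (x₂ := i x₂)
      (y₂ := i y₂) (fun h => h1 (hi (by rw [map_mul, map_mul]; exact h)))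
      (fun h => h2 (hi (by rw [map_mul, map_mul]; exact h))) (c1.map i) (c2.map i) (c3.map i) (c4.map i)

end Cfsg.Agent.H892.HT
end

-- part: H892/HT/Diag
section
/-!
# S4933, the field `psu_diag` of `OddRows`: `PSU_n(q)`, `p ∣ q + 1`, `p ∣ n` (helper892)

* `row_psu_grid` : `n ≥ p ^ 2` (vacuous);
* `row_psu_six'` : `n = 6`, `p = 3`;
* `psu_diag_of` : the field, from the case `n = p = 3`.
-/

set_option autoImplicit false
set_option linter.unusedSectionVars false
set_option linter.unusedSimpArgs false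

open Matrix Equiv Equiv.Perm Subgroup
open scoped commutatorElement

namespace Cfsg.Agent.H892.HT

open Cfsg Cfsg.Agent.H751 Cfsg.Agent.H316.HT

section Zeta

variable {F : Type} [Field F] [Fintype F] {q p : ℕ}

/-- a root of unity of order `p` in `GU_1(q)` -/
theorem exists_zeta (hF : Fintype.card F = q ^ 2) (hp : p.Prime) (hpq : p ∣ q + 1) :
    ∃ z : Fˣ, orderOf z = p := by
  have : Fact p.Prime := ⟨hp⟩
  have h1 : p ∣ Nat.card Fˣ := by
    rw [Nat.card_units, Nat.card_eq_fintype_card, hF]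
    have h2 : q ^ 2 - 1 = (q + 1) * (q - 1) := by
      have := Nat.sq_sub_sq q 1
      rwa [one_pow] at this
    rw [h2]
    exact hpq.mul_right _
  exact exists_prime_orderOf_dvd_card' p h1

end Zeta

section Rows

variable {F : Type} [Field F] [Fintype F] {q p : ℕ}

theorem zeta_pow {z : Fˣ} (hz : orderOf z = p) (c : zpowers z) : c ^ p = 1 := by
  obtain ⟨c, k, rfl⟩ := c
  apply Subtype.ext
  show (z ^ k) ^ p = 1
  rw [← zpow_natCast, ← _root_.zpow_mul, mul_comm, _root_.zpow_mul, zpow_natCast, ← hz, pow_orderOf_eq_one,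
    _root_.one_zpow]

theorem zeta_pow' {z : Fˣ} (hz : orderOf z = p) (hpq : p ∣ q + 1) (c : zpowers z) :
    (zpowers z).subtype c ^ (q + 1) = 1 := by
  obtain ⟨t, ht⟩ := hpq
  rw [ht, ← map_pow, pow_mul, zeta_pow hz, one_pow, map_one]

/-- **`n ≥ p ^ 2`** -/
theorem row_psu_grid (hF : Fintype.card F = q ^ 2) (hp : p.Prime) (hp2 : p ≠ 2) (hpq : p ∣ q + 1) {n : ℕ}
    (hn : p * p ≤ n) : Row p (PSU n F q) := by
  have : Fact p.Prime := ⟨hp⟩
  have hp3 : 3 ≤ p := by have := hp.two_le; omega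
  have : Fact (1 < p) := ⟨by omega⟩
  obtain ⟨k, rfl⟩ : ∃ k, n = p * p + k := ⟨n - p * p, by omega⟩
  obtain ⟨ζ, hζ⟩ := exists_zeta hF hp hpq
  have hζ1 : ζ ≠ 1 := by
    rintro rfl
    rw [orderOf_one] at hζ
    omega
  let e : Fin (p * p + k) ≃ (ZMod p × ZMod p) ⊕ Fin k :=
    finSumFinEquiv.symm.trans (Equiv.sumCongr (finProdFinEquiv.symm.trans
      (Equiv.prodCongr (ZMod.finEquiv p).toEquiv (ZMod.finEquiv p).toEquiv)) (Equiv.refl _))
  let P : Subgroup (Perm ((ZMod p × ZMod p) ⊕ Fin k)) := (P0 p).map (ext1 _ _)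
  have hP : IsPGroup p P := (isPGroup_P0 p).map _
  let χ : zpowers ζ →* Fˣ := (zpowers ζ).subtype
  have hχ : ∀ c, χ c ^ (q + 1) = 1 := zeta_pow' hζ hpq
  let f : XX χ P →* PSU (p * p + k) F q := toPSU hF hχ P e
  have hodd : Odd p := hp.odd_of_ne_two hp2
  have hX : IsPGroup p (XX χ P) := isPGroup_XX (zeta_pow hζ) hP
  let c : zpowers ζ := ⟨ζ, mem_zpowers ζ⟩
  let u : (ZMod p × ZMod p) ⊕ Fin k → zpowers ζ :=
    Pi.mulSingle (Sum.inl (0, 0)) c * (Pi.mulSingle (Sum.inl (1, 0)) c)⁻¹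
  have hu : ∏ i, u i = 1 := by
    simp only [u, Pi.mul_apply, Pi.inv_apply, Finset.prod_mul_distrib, Finset.prod_inv_distrib]
    rw [Finset.prod_pi_mulSingle', Finset.prod_pi_mulSingle', if_pos (Finset.mem_univ _),
      if_pos (Finset.mem_univ _), mul_inv_cancel]
  let x : XX χ P := ⟨SemidirectProduct.inr (ext1 _ _ (sx p)), inr_mem hodd hP (mem_map_of_mem _ (sx_mem p))⟩
  let y : XX χ P := ⟨SemidirectProduct.inr (ext1 _ _ (sy p)), inr_mem hodd hP (mem_map_of_mem _ (sy_mem p))⟩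
  let z : XX χ P := ⟨SemidirectProduct.inr (ext1 _ _ (sz p)), inr_mem hodd hP (mem_map_of_mem _ (sz_mem p))⟩
  let d : XX χ P := ⟨SemidirectProduct.inl u, inl_mem hu⟩
  have hxy : ⁅x, y⁆ = z := by
    apply Subtype.ext
    show ⁅(SemidirectProduct.inr (ext1 _ _ (sx p)) : MonGp ((ZMod p × ZMod p) ⊕ Fin k) (zpowers ζ)),
      (SemidirectProduct.inr (ext1 _ _ (sy p)) : MonGp ((ZMod p × ZMod p) ⊕ Fin k) (zpowers ζ))⁆ = _
    rw [← map_commutatorElement, ← map_commutatorElement, comm_sx_sy]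
  have hX' : IsPGroup p f.range := hX.of_surjective f.rangeRestrict f.rangeRestrict_surjective
  refine H681.IP.row_of_derived_mem hp f.range hX' (x := f x) (y := f y) (z := f z) (t := f d) ⟨x, rfl⟩ ⟨y, rfl⟩
    ⟨z, rfl⟩ ⟨d, rfl⟩ fun hc => ?_
  rw [← map_commutatorElement, ← map_commutatorElement, hxy, ← commutatorElement_eq_one_iff_commute,
    ← map_commutatorElement] at hc
  obtain ⟨a, ha⟩ := of_toPSU_eq_one hF hχ (by nlinarith only [hp3]) hc
  have hv : ∀ i, monMat χ (⁅z, ⁅z, d⁆⁆ : XX χ P).1 i i =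
      ((χ (u ((ext1 _ _ (sz p))⁻¹ ((ext1 _ _ (sz p))⁻¹ i)) * (u ((ext1 _ _ (sz p))⁻¹ i))⁻¹ *
        (u ((ext1 _ _ (sz p))⁻¹ i) * (u i)⁻¹)⁻¹) : Fˣ) : F) := by
    intro i
    have h1 : (⁅z, ⁅z, d⁆⁆ : XX χ P).1 = ⁅(SemidirectProduct.inr (ext1 _ _ (sz p)) :
      MonGp ((ZMod p × ZMod p) ⊕ Fin k) (zpowers ζ)), ⁅(SemidirectProduct.inr (ext1 _ _ (sz p)) :
      MonGp ((ZMod p × ZMod p) ⊕ Fin k) (zpowers ζ)), (SemidirectProduct.inl u :
      MonGp ((ZMod p × ZMod p) ⊕ Fin k) (zpowers ζ))⁆⁆ := rfl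
    rw [h1, comm_inr_inl, comm_inr_inl, monMat_inl, diagonal_apply_eq]
  have hinv : ∀ a b : ZMod p, (ext1 (ZMod p × ZMod p) (Fin k) (sz p))⁻¹ (Sum.inl (a, b)) = Sum.inl (a, b - 1) := by
    intro a b
    rw [Perm.inv_eq_iff_eq, ext1_inl]
    simp [sz]
  have huv : ∀ a b : ZMod p, u (Sum.inl (a, b)) = (if (a, b) = (0, 0) then c else 1) *
      (if (a, b) = (1, 0) then c else 1)⁻¹ := by
    intro a b
    simp only [u, Pi.mul_apply, Pi.inv_apply, Pi.mulSingle_apply, Sum.inl.injEq]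
  have n1 : (-1 : ZMod p) ≠ 0 := by
    rw [neg_ne_zero]
    exact one_ne_zero
  have n2 : (2 : ZMod p) ≠ 0 := by
    intro h
    have h1 : ((2 : ℕ) : ZMod p) = 0 := by exact_mod_cast h
    rw [ZMod.natCast_eq_zero_iff] at h1
    have := Nat.le_of_dvd (by norm_num) h1
    omega
  have n3 : (0 : ZMod p) - 1 - 1 ≠ 0 := by
    intro h
    apply n2
    linear_combination -h
  have n4 : (2 : ZMod p) ≠ 1 := by
    intro h
    apply one_ne_zero (α := ZMod p)
    linear_combination h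
  have e1 := hv (Sum.inl (0, 0))
  have e2 := hv (Sum.inl (2, 0))
  rw [ha, hinv, hinv] at e1 e2
  simp only [huv, Prod.mk.injEq, zero_sub] at e1 e2
  have n0 : (0 : ZMod p) ≠ 1 := zero_ne_one
  have n5 : (-1 : ZMod p) - 1 ≠ 0 := by rwa [zero_sub] at n3
  simp only [n1, n2, n4, n5, n0, and_false, false_and, and_true, true_and, if_true, if_false, inv_one, mul_one,
    one_mul, and_self] at e1 e2
  rw [e2] at e1
  apply hζ1
  simp only [map_one, inv_inv] at e1
  exact (Units.ext e1).symm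

/-- `GU_1 wr A_3` in `PSU_6`: the permutations of the grid `3 × 2` -/
def P6 : Subgroup (Perm (ZMod 3 × Fin 2)) where
  carrier := {σ | ∃ f : Fin 2 → ZMod 3, ∀ a b, σ (a, b) = (a + f b, b)}
  mul_mem' := by
    rintro σ τ ⟨f, h⟩ ⟨f', h'⟩
    refine ⟨f' + f, fun a b => ?_⟩
    rw [Perm.mul_apply, h', h]
    ext
    · simp only [Pi.add_apply]; ring
    · rfl
  one_mem' := ⟨0, fun a b => by simp⟩
  inv_mem' := by
    rintro σ ⟨f, h⟩
    refine ⟨-f, fun a b => ?_⟩
    rw [Perm.inv_eq_iff_eq, h]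
    ext
    · simp only [Pi.neg_apply]; ring
    · rfl

theorem isPGroup_P6 : IsPGroup 3 P6 := by
  rintro ⟨σ, f, h⟩
  refine ⟨1, Subtype.ext ?_⟩
  show σ ^ 3 ^ 1 = 1
  have h3 : ∀ (k : ℕ) (a : ZMod 3) (b : Fin 2), (σ ^ k) (a, b) = (a + k * f b, b) := by
    intro k
    induction k with
    | zero => intro a b; simp
    | succ k ih =>
      intro a b
      rw [pow_succ, Perm.mul_apply, h, ih]
      ext
      · push_cast
        ring
      · rfl
  ext ⟨a, b⟩ : 1
  rw [pow_one, h3]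
  have : ((3 : ℕ) : ZMod 3) = 0 := by decide
  rw [this]
  simp

/-- the rotation of the block `j` -/
def rot (j : Fin 2) : Perm (ZMod 3 × Fin 2) where
  toFun x := (x.1 + (if x.2 = j then 1 else 0), x.2)
  invFun x := (x.1 - (if x.2 = j then 1 else 0), x.2)
  left_inv x := by ext <;> simp
  right_inv x := by ext <;> simp

theorem rot_mem (j : Fin 2) : rot j ∈ P6 := ⟨fun b => if b = j then 1 else 0, fun _ _ => rfl⟩

theorem rot_comm : Commute (rot 0) (rot 1) := by
  ext ⟨a, b⟩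
  · show a + (if b = 1 then 1 else 0) + (if b = 0 then 1 else 0) =
      a + (if b = 0 then 1 else 0) + (if b = 1 then 1 else 0)
    ring
  · rfl

/-- **`PSU_6(q)`, `3 ∣ q + 1`** -/
theorem row_psu_six' (hF : Fintype.card F = q ^ 2) (hpq : 3 ∣ q + 1) : Row 3 (PSU 6 F q) := by
  obtain ⟨ζ, hζ⟩ := exists_zeta hF Nat.prime_three hpq
  have hζ1 : ζ ≠ 1 := by
    rintro rfl
    rw [orderOf_one] at hζ
    omega
  let e : Fin 6 ≃ ZMod 3 × Fin 2 := (finProdFinEquiv : Fin 3 × Fin 2 ≃ Fin (3 * 2)).symm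
  let χ : zpowers ζ →* Fˣ := (zpowers ζ).subtype
  have hχ : ∀ c, χ c ^ (q + 1) = 1 := zeta_pow' hζ hpq
  let f : XX χ P6 →* PSU 6 F q := toPSU hF hχ P6 e
  have hX : IsPGroup 3 (XX χ P6) := isPGroup_XX (zeta_pow hζ) isPGroup_P6
  let c : zpowers ζ := ⟨ζ, mem_zpowers ζ⟩
  have hc3 : c ^ 3 = 1 := zeta_pow hζ c
  let u : Fin 2 → ZMod 3 × Fin 2 → zpowers ζ := fun j x => if x.2 = j then c ^ x.1.val else 1
  have hu : ∀ j, ∏ i, u j i = 1 := by
    intro j
    rw [Fintype.prod_prod_type]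
    have h1 : ∀ a : ZMod 3, ∏ b, u j (a, b) = c ^ a.val := by
      intro a
      show (∏ b : Fin 2, if b = j then c ^ a.val else 1) = c ^ a.val
      rw [Finset.prod_ite_eq' Finset.univ j, if_pos (Finset.mem_univ _)]
    rw [Finset.prod_congr rfl fun a _ => h1 a]
    show ∏ a : Fin 3, c ^ ZMod.val (n := 3) a = 1
    rw [Fin.prod_univ_three]
    show c ^ 0 * c ^ 1 * c ^ 2 = 1
    rw [← pow_add, ← pow_add]
    exact hc3
  let x : Fin 2 → XX χ P6 := fun j => ⟨SemidirectProduct.inl (u j), inl_mem (hu j)⟩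
  let y : Fin 2 → XX χ P6 := fun j => ⟨SemidirectProduct.inr (rot j), inr_mem (by decide) isPGroup_P6 (rot_mem j)⟩
  have hX' : IsPGroup 3 f.range := hX.of_surjective f.rangeRestrict f.rangeRestrict_surjective
  have hinv : ∀ j a b, (rot j)⁻¹ (a, b) = (a - (if b = j then 1 else 0), b) := fun j a b => rfl
  have hyx : ∀ j k, (⁅y j, x k⁆ : XX χ P6).1 = SemidirectProduct.inl
      (fun i => u k ((rot j)⁻¹ i) * (u k i)⁻¹) := fun j k => comm_inr_inl (rot j) (u k)
  have hne : ∀ j, f (⁅y j, x j⁆) ≠ 1 := by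
    intro j h
    obtain ⟨a, ha⟩ := of_toPSU_eq_one hF hχ (by norm_num) h
    have hv : ∀ b, ((χ (u j ((rot j)⁻¹ (1, b)) * (u j (1, b))⁻¹) : Fˣ) : F) = a := by
      intro b
      rw [← ha (1, b), hyx, monMat_inl, diagonal_apply_eq]
    have e1 := hv j
    have e2 := hv (j + 1)
    have hj : j + 1 ≠ j := by fin_cases j <;> decide
    rw [hinv] at e1 e2
    have v0 : ZMod.val (n := 3) 0 = 0 := rfl
    have v1 : ZMod.val (n := 3) 1 = 1 := rfl
    simp only [u, if_pos, sub_self, v0, v1, pow_zero, pow_one, one_mul] at e1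
    simp only [u, if_neg hj, inv_one, mul_one, map_one, Units.val_one] at e2
    rw [← e2] at e1
    apply hζ1
    rw [Units.val_eq_one, map_inv, inv_eq_one] at e1
    exact e1
  have hxx : Commute (x 0) (x 1) := by
    apply Subtype.ext
    show (SemidirectProduct.inl (u 0) * SemidirectProduct.inl (u 1) : MonGp _ _) =
      SemidirectProduct.inl (u 1) * SemidirectProduct.inl (u 0)
    rw [← map_mul, ← map_mul, mul_comm]
  have hyy : Commute (y 0) (y 1) := by
    apply Subtype.ext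
    show (SemidirectProduct.inr (rot 0) * SemidirectProduct.inr (rot 1) : MonGp _ _) =
      SemidirectProduct.inr (rot 1) * SemidirectProduct.inr (rot 0)
    rw [← map_mul, ← map_mul, rot_comm.eq]
  have hyx' : ∀ j k, j ≠ k → Commute (y j) (x k) := by
    intro j k hjk
    rw [← commutatorElement_eq_one_iff_commute]
    apply Subtype.ext
    rw [hyx]
    show SemidirectProduct.inl (fun i => u k ((rot j)⁻¹ i) * (u k i)⁻¹) = (1 : MonGp _ _)
    have : (fun i => u k ((rot j)⁻¹ i) * (u k i)⁻¹) = 1 := by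
      funext ⟨a, b⟩
      rw [hinv]
      by_cases hb : b = k
      · subst hb
        rw [if_neg (Ne.symm hjk), sub_zero, mul_inv_cancel]
        rfl
      · simp only [u, if_neg hb, inv_one, mul_one]
        rfl
    rw [this, map_one]
  have hn' : ∀ j, f (x j) * f (y j) ≠ f (y j) * f (x j) := by
    intro j h
    apply hne j
    rw [map_commutatorElement, commutatorElement_eq_one_iff_mul_comm]
    exact h.symm
  exact row_psu_six hF hpq f.range.subtype f.range.subtype_injective hX'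
    (x₁ := ⟨f (x 0), x 0, rfl⟩) (y₁ := ⟨f (y 0), y 0, rfl⟩) (x₂ := ⟨f (x 1), x 1, rfl⟩)
    (y₂ := ⟨f (y 1), y 1, rfl⟩) (fun h => hn' 0 (congrArg Subtype.val h)) (fun h => hn' 1 (congrArg Subtype.val h))
    (Subtype.ext (hxx.map f).eq) (Subtype.ext ((hyx' 1 0 (by decide)).symm.map f).eq)
    (Subtype.ext ((hyx' 0 1 (by decide)).map f).eq) (Subtype.ext (hyy.map f).eq)

/-- **the field `psu_diag` without `n = p = 3`** -/
theorem psu_diag_ne (hF : Fintype.card F = q ^ 2) (hp : p.Prime) (hp2 : p ≠ 2) {n : ℕ} (hn : 3 ≤ n)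
    (hpq : p ∣ q + 1) (hpn : p ∣ n) (h3 : ¬ (n = 3 ∧ p = 3)) : Row p (PSU n F q) := by
  have : Fact p.Prime := ⟨hp⟩
  have hp3 : 3 ≤ p := by have := hp.two_le; omega
  rcases le_or_gt (p * p) n with h | h
  · exact row_psu_grid hF hp hp2 hpq h
  obtain ⟨t, rfl⟩ := hpn
  have ht0 : t ≠ 0 := by
    rintro rfl
    omega
  have htp : t < p := by
    by_contra h1
    have := Nat.mul_le_mul_left p (not_lt.1 h1)
    omega
  have htd : ¬ p ∣ t := fun h1 => by
    have := Nat.le_of_dvd (Nat.pos_of_ne_zero ht0) h1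
    omega
  by_cases hp5 : p = 3
  · subst hp5
    obtain rfl : t = 2 := by
      have : t ≠ 1 := by
        rintro rfl
        exact h3 ⟨rfl, rfl⟩
      omega
    exact row_psu_six' hF hpq
  · have e1 : emultiplicity p (p * t) = 1 := by
      rw [emultiplicity_mul hp.prime, emultiplicity_eq_zero.2 htd, add_zero]
      have h1 : FiniteMultiplicity p p := Nat.finiteMultiplicity_iff.2 ⟨hp.ne_one, hp.pos⟩
      exact h1.emultiplicity_self
    have e2 : emultiplicity p (p * t - 3) = 0 := by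
      rw [emultiplicity_eq_zero]
      intro h1
      have h2 : p ∣ 3 := by
        have h4 : p ∣ p * t - (p * t - 3) := Nat.dvd_sub (Dvd.intro _ rfl) h1
        have h5 : p * t - (p * t - 3) = 3 := by omega
        rwa [h5] at h4
      exact hp5 ((Nat.prime_dvd_prime_iff_eq hp Nat.prime_three).1 h2)
    have hn4 : 4 ≤ p * t := by
      have : p ≤ p * t := Nat.le_mul_of_pos_right p (Nat.pos_of_ne_zero ht0)
      omega
    exact row_psu_one hF hn4 hp2 hpq (by rw [e1, e2, add_zero])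

end Rows

/-- **the field `psu_diag` of `OddRows`**, from the case `n = p = 3` -/
theorem psu_diag_of (h33 : ∀ (F : Type) [Field F] [Fintype F] (q : ℕ) [IsSimpleGroup (PSU 3 F q)],
      Fintype.card F = q ^ 2 → 3 ∣ q + 1 → ¬ Ab 3 (PSU 3 F q) → Row 3 (PSU 3 F q))
    (p : ℕ) [hp : Fact p.Prime] (F : Type) [Field F] [Fintype F] (n q : ℕ) [hs : IsSimpleGroup (PSU n F q)]
    (hp2 : p ≠ 2) (hn : 3 ≤ n) (hF : Fintype.card F = q ^ 2) (_ : ¬ p ∣ q) (hpq : p ∣ q + 1) (hpn : p ∣ n)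
    (hab : ¬ Ab p (PSU n F q)) : Row p (PSU n F q) := by
  by_cases h3 : n = 3 ∧ p = 3
  · obtain ⟨rfl, rfl⟩ := h3
    exact h33 F q hF hpq hab
  · exact psu_diag_ne hF hp.out hp2 hn hpq hpn h3

end Cfsg.Agent.H892.HT
end

-- part: H892/HT/Pairs
section
/-!
# Two commuting nonabelian pairs in a `p`-subgroup of `PSU_n(q)`, `p ∣ q + 1`, `n ≥ 2 p` (helper892)
-/

set_option autoImplicit false
set_option linter.unusedSectionVars false
set_option linter.unusedSimpArgs false

open Matrix Equiv Equiv.Perm Subgroup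
open scoped commutatorElement

namespace Cfsg.Agent.H892.HT

open Cfsg Cfsg.Agent.H751 Cfsg.Agent.H316.HT

section PB

variable (p : ℕ) [hp : Fact p.Prime]

/-- the permutations of the grid `p × 2` which rotate the columns -/
def PB : Subgroup (Perm (ZMod p × Fin 2)) where
  carrier := {σ | ∃ f : Fin 2 → ZMod p, ∀ a b, σ (a, b) = (a + f b, b)}
  mul_mem' := by
    rintro σ τ ⟨f, h⟩ ⟨f', h'⟩
    refine ⟨f' + f, fun a b => ?_⟩
    rw [Perm.mul_apply, h', h]
    ext
    · simp only [Pi.add_apply]; ring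
    · rfl
  one_mem' := ⟨0, fun a b => by simp⟩
  inv_mem' := by
    rintro σ ⟨f, h⟩
    refine ⟨-f, fun a b => ?_⟩
    rw [Perm.inv_eq_iff_eq, h]
    ext
    · simp only [Pi.neg_apply]; ring
    · rfl

theorem isPGroup_PB : IsPGroup p (PB p) := by
  rintro ⟨σ, f, h⟩
  refine ⟨1, Subtype.ext ?_⟩
  show σ ^ p ^ 1 = 1
  have h3 : ∀ (k : ℕ) (a : ZMod p) (b : Fin 2), (σ ^ k) (a, b) = (a + k * f b, b) := by
    intro k
    induction k with
    | zero => intro a b; simp
    | succ k ih =>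
      intro a b
      rw [pow_succ, Perm.mul_apply, h, ih]
      ext
      · push_cast
        ring
      · rfl
  ext ⟨a, b⟩ : 1
  rw [pow_one, h3]
  simp

/-- the rotation of the column `j` -/
def rotp (j : Fin 2) : Perm (ZMod p × Fin 2) where
  toFun x := (x.1 + (if x.2 = j then 1 else 0), x.2)
  invFun x := (x.1 - (if x.2 = j then 1 else 0), x.2)
  left_inv x := by ext <;> simp
  right_inv x := by ext <;> simp

theorem rotp_mem (j : Fin 2) : rotp p j ∈ PB p := ⟨fun b => if b = j then 1 else 0, fun _ _ => rfl⟩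

theorem rotp_comm : Commute (rotp p 0) (rotp p 1) := by
  ext ⟨a, b⟩ : 1
  refine Prod.ext ?_ rfl
  show a + (if b = 1 then 1 else 0) + (if b = 0 then 1 else 0) =
    a + (if b = 0 then 1 else 0) + (if b = 1 then 1 else 0)
  ring

end PB

variable {F : Type} [Field F] [Fintype F] {q p : ℕ}

/-- **two commuting nonabelian pairs** -/
theorem pairs_psu [hp : Fact p.Prime] {n : ℕ} (hF : Fintype.card F = q ^ 2) (h2 : p ≠ 2) (hpq : p ∣ q + 1)
    (hn : 2 * p ≤ n) : ∃ X : Subgroup (PSU n F q), IsPGroup p X ∧ ∃ x₁ ∈ X, ∃ y₁ ∈ X, ∃ x₂ ∈ X, ∃ y₂ ∈ X,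
      x₁ * y₁ ≠ y₁ * x₁ ∧ x₂ * y₂ ≠ y₂ * x₂ ∧ Commute x₁ x₂ ∧ Commute x₁ y₂ ∧ Commute y₁ x₂ ∧ Commute y₁ y₂ := by
  have hp3 : 3 ≤ p := by have := hp.out.two_le; omega
  have : Fact (1 < p) := ⟨by omega⟩
  obtain ⟨k, rfl⟩ : ∃ k, n = p * 2 + k := ⟨n - p * 2, by omega⟩
  obtain ⟨ζ, hζ⟩ := exists_zeta hF hp.out hpq
  have hζ1 : ζ ≠ 1 := by
    rintro rfl
    rw [orderOf_one] at hζ
    omega
  let e : Fin (p * 2 + k) ≃ (ZMod p × Fin 2) ⊕ Fin k :=
    finSumFinEquiv.symm.trans (Equiv.sumCongr (finProdFinEquiv.symm.trans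
      (Equiv.prodCongr (ZMod.finEquiv p).toEquiv (Equiv.refl _))) (Equiv.refl _))
  let P : Subgroup (Perm ((ZMod p × Fin 2) ⊕ Fin k)) := (PB p).map (ext1 _ _)
  have hP : IsPGroup p P := (isPGroup_PB p).map _
  let χ : zpowers ζ →* Fˣ := (zpowers ζ).subtype
  have hχ : ∀ c, χ c ^ (q + 1) = 1 := zeta_pow' hζ hpq
  let f : XX χ P →* PSU (p * 2 + k) F q := toPSU hF hχ P e
  have hodd : Odd p := hp.out.odd_of_ne_two h2
  have hX : IsPGroup p (XX χ P) := isPGroup_XX (zeta_pow hζ) hP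
  let c : zpowers ζ := ⟨ζ, mem_zpowers ζ⟩
  let u : Fin 2 → (ZMod p × Fin 2) ⊕ Fin k → zpowers ζ := fun j =>
    Pi.mulSingle (Sum.inl (0, j)) c * (Pi.mulSingle (Sum.inl (1, j)) c)⁻¹
  have hu : ∀ j, ∏ i, u j i = 1 := by
    intro j
    simp only [u, Pi.mul_apply, Pi.inv_apply, Finset.prod_mul_distrib, Finset.prod_inv_distrib]
    rw [Finset.prod_pi_mulSingle', Finset.prod_pi_mulSingle', if_pos (Finset.mem_univ _),
      if_pos (Finset.mem_univ _), mul_inv_cancel]
  let x : Fin 2 → XX χ P := fun j => ⟨SemidirectProduct.inl (u j), inl_mem (hu j)⟩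
  let y : Fin 2 → XX χ P := fun j =>
    ⟨SemidirectProduct.inr (ext1 _ _ (rotp p j)), inr_mem hodd hP (mem_map_of_mem _ (rotp_mem p j))⟩
  have hinv : ∀ j a b, (ext1 (ZMod p × Fin 2) (Fin k) (rotp p j))⁻¹ (Sum.inl (a, b)) =
      Sum.inl (a - (if b = j then 1 else 0), b) := fun j a b => rfl
  have hinv' : ∀ j i, (ext1 (ZMod p × Fin 2) (Fin k) (rotp p j))⁻¹ (Sum.inr i) = Sum.inr i := fun j i => rfl
  have huv : ∀ j (a : ZMod p) b, u j (Sum.inl (a, b)) = (if (a, b) = (0, j) then c else 1) *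
      (if (a, b) = (1, j) then c else 1)⁻¹ := by
    intro j a b
    simp only [u, Pi.mul_apply, Pi.inv_apply, Pi.mulSingle_apply, Sum.inl.injEq]
  have hur : ∀ j i, u j (Sum.inr i) = 1 := by
    intro j i
    simp [u, Pi.mulSingle_apply]
  have hyx : ∀ j k', (⁅y j, x k'⁆ : XX χ P).1 = SemidirectProduct.inl
      (fun i => u k' ((ext1 _ _ (rotp p j))⁻¹ i) * (u k' i)⁻¹) := fun j k' => comm_inr_inl _ (u k')
  have hne : ∀ j, f (⁅y j, x j⁆) ≠ 1 := by
    intro j h
    obtain ⟨a, ha⟩ := of_toPSU_eq_one hF hχ (by omega) h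
    have hv : ∀ b, ((χ (u j ((ext1 _ _ (rotp p j))⁻¹ (Sum.inl (0, b))) * (u j (Sum.inl (0, b)))⁻¹) : Fˣ) : F)
        = a := by
      intro b
      rw [← ha (Sum.inl (0, b)), hyx, monMat_inl, diagonal_apply_eq]
    have e1 := hv j
    have e2 := hv (j + 1)
    have hj : j + 1 ≠ j := by fin_cases j <;> decide
    have n1 : (-1 : ZMod p) ≠ 0 := by
      rw [neg_ne_zero]
      exact one_ne_zero
    have n2 : (-1 : ZMod p) ≠ 1 := by
      intro h
      have h3 : ((2 : ℕ) : ZMod p) = 0 := by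
        push_cast
        linear_combination -h
      rw [ZMod.natCast_eq_zero_iff] at h3
      have := Nat.le_of_dvd (by norm_num) h3
      omega
    have n0 : (0 : ZMod p) ≠ 1 := zero_ne_one
    rw [hinv] at e1 e2
    simp only [huv, Prod.mk.injEq, if_true, zero_sub, n1, n2, n0, hj, false_and, and_false, if_false, and_true,
      true_and, and_self, inv_one, mul_one, one_mul, map_one, Units.val_one, sub_zero] at e1 e2
    rw [← e2] at e1
    apply hζ1
    rw [Units.val_eq_one, map_inv, inv_eq_one] at e1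
    exact e1
  have hxx : Commute (x 0) (x 1) := by
    apply Subtype.ext
    show (SemidirectProduct.inl (u 0) * SemidirectProduct.inl (u 1) : MonGp _ _) =
      SemidirectProduct.inl (u 1) * SemidirectProduct.inl (u 0)
    rw [← map_mul, ← map_mul, mul_comm]
  have hyy : Commute (y 0) (y 1) := by
    apply Subtype.ext
    show (SemidirectProduct.inr (ext1 _ _ (rotp p 0)) * SemidirectProduct.inr (ext1 _ _ (rotp p 1)) : MonGp _ _) =
      SemidirectProduct.inr (ext1 _ _ (rotp p 1)) * SemidirectProduct.inr (ext1 _ _ (rotp p 0))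
    rw [← map_mul, ← map_mul, ← map_mul, ← map_mul, (rotp_comm p).eq]
  have hyx' : ∀ j k', j ≠ k' → Commute (y j) (x k') := by
    intro j k' hjk
    rw [← commutatorElement_eq_one_iff_commute]
    apply Subtype.ext
    rw [hyx]
    show SemidirectProduct.inl (fun i => u k' ((ext1 _ _ (rotp p j))⁻¹ i) * (u k' i)⁻¹) = (1 : MonGp _ _)
    have : (fun i => u k' ((ext1 _ _ (rotp p j))⁻¹ i) * (u k' i)⁻¹) = 1 := by
      funext i
      rcases i with ⟨a, b⟩ | i
      · rw [hinv]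
        by_cases hb : b = k'
        · subst hb
          rw [if_neg (Ne.symm hjk), sub_zero, mul_inv_cancel]
          rfl
        · simp only [huv, Prod.mk.injEq, hb, and_false, if_false, inv_one, mul_one]
          rfl
      · rw [hinv', hur]
        simp
    rw [this, map_one]
  have hn' : ∀ j, f (x j) * f (y j) ≠ f (y j) * f (x j) := by
    intro j h
    apply hne j
    rw [map_commutatorElement, commutatorElement_eq_one_iff_mul_comm]
    exact h.symm
  exact ⟨f.range, hX.of_surjective f.rangeRestrict f.rangeRestrict_surjective, f (x 0), ⟨_, rfl⟩, f (y 0), ⟨_, rfl⟩,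
    f (x 1), ⟨_, rfl⟩, f (y 1), ⟨_, rfl⟩, hn' 0, hn' 1, hxx.map f, (hyx' 1 0 (by decide)).symm.map f,
    (hyx' 0 1 (by decide)).map f, hyy.map f⟩

end Cfsg.Agent.H892.HT
end

private theorem dce_bb08b659777d : _root_.True := by
  try have : _root_.True := by simp only [_root_.Cfsg.Agent.H314.CY.Psu.sm.eq_1]
  try have : _root_.True := by simp only [_root_.Cfsg.Agent.H892.HT.sy.eq_1]
  try have : _root_.True := by simp only [_root_.Cfsg.Agent.H751.monMat.congr_simp]
  try have : _root_.True := by simp only [_root_.Cfsg.Agent.H892.HT.sz.eq_1]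
  try have : _root_.True := by simp only [_root_.Cfsg.Agent.H892.HT.sx.eq_1]
  exact _root_.True.intro
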